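import Mathlib

/-! Auxiliary facts about adic completions of arbitrary modules. -/

namespace Groth.Agent.CAlg.AdicAux

universe u v w

variable {A : Type u} [CommRing A] {I : Ideal A} {M : Type v} [AddCommGroup M] [Module A M]

theorem val_eq_zero_of_mem {n : ℕ} {x : AdicCompletion I M}
    (hx : x ∈ (I ^ n • ⊤ : Submodule A (AdicCompletion I M))) : x.val n = 0 :=
  AdicCompletion.pow_smul_top_le_ker_eval (I := I) n hx

theorem of_mem {n : ℕ} {y : M} (hy : y ∈ (I ^ n • ⊤ : Submodule A M)) :
    AdicCompletion.of I M y ∈ (I ^ n • ⊤ : Submodule A (AdicCompletion I M)) := by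
  have h := Submodule.mem_map_of_mem (f := AdicCompletion.of I M) hy
  rw [Submodule.map_smul''] at h
  exact Submodule.smul_mono le_rfl le_top h

theorem mem_of_of_mem {n : ℕ} {y : M}
    (hy : AdicCompletion.of I M y ∈ (I ^ n • ⊤ : Submodule A (AdicCompletion I M))) :
    y ∈ (I ^ n • ⊤ : Submodule A M) := by
  have h := val_eq_zero_of_mem hy
  rw [AdicCompletion.of_apply, Submodule.mkQ_apply, Submodule.Quotient.mk_eq_zero] at h
  exact h

theorem mem_of_val_eq_zero [IsAdicComplete I (AdicCompletion I M)] {n : ℕ}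
    {x : AdicCompletion I M} (hx : x.val n = 0) :
    x ∈ (I ^ n • ⊤ : Submodule A (AdicCompletion I M)) := by
  obtain ⟨a, rfl⟩ := AdicCompletion.mk_surjective I M x
  have hc : ∀ {m k : ℕ}, m ≤ k → AdicCompletion.of I M (a m) ≡ AdicCompletion.of I M (a k)
      [SMOD (I ^ m • ⊤ : Submodule A (AdicCompletion I M))] := by
    intro m k hmk
    rw [SModEq.sub_mem, ← map_sub]
    exact of_mem (SModEq.sub_mem.1 (a.2 hmk))
  obtain ⟨L, hL⟩ := IsPrecomplete.prec (inferInstance : IsPrecomplete I (AdicCompletion I M)) hc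
  have hLx : L = AdicCompletion.mk I M a := by
    refine AdicCompletion.ext fun k => ?_
    have h := val_eq_zero_of_mem (SModEq.sub_mem.1 (hL k))
    rw [AdicCompletion.val_sub_apply, sub_eq_zero] at h
    rw [← h]
    rfl
  rw [← hLx]
  have h1 : a n ∈ (I ^ n • ⊤ : Submodule A M) := (Submodule.Quotient.mk_eq_zero _).1 hx
  have h2 := SModEq.sub_mem.1 (hL n)
  have h3 := sub_mem (of_mem h1) h2
  rwa [sub_sub_cancel] at h3

theorem exists_sub_of_mem [IsAdicComplete I (AdicCompletion I M)] (n : ℕ)
    (x : AdicCompletion I M) :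
    ∃ y : M, x - AdicCompletion.of I M y ∈ (I ^ n • ⊤ : Submodule A (AdicCompletion I M)) := by
  obtain ⟨y, hy⟩ := Submodule.mkQ_surjective _ (x.val n)
  refine ⟨y, mem_of_val_eq_zero ?_⟩
  rw [AdicCompletion.val_sub_apply, AdicCompletion.of_apply, hy, sub_self]

theorem isAdicComplete_of_dense
    (h : ∀ (n : ℕ) (x : AdicCompletion I M), ∃ y : M,
      x - AdicCompletion.of I M y ∈ (I ^ n • ⊤ : Submodule A (AdicCompletion I M))) :
    IsAdicComplete I (AdicCompletion I M) := by
  have hp : IsPrecomplete I (AdicCompletion I M) := by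
    refine ⟨fun f hf => ?_⟩
    choose y hy using fun n => h n (f n)
    have hc : ∀ n, y n ≡ y (n + 1) [SMOD (I ^ n • ⊤ : Submodule A M)] := by
      intro n
      rw [SModEq.sub_mem]
      apply mem_of_of_mem
      have h1 := SModEq.sub_mem.1 (hf n.le_succ)
      have h2 : f (n + 1) - AdicCompletion.of I M (y (n + 1)) ∈
          (I ^ n • ⊤ : Submodule A (AdicCompletion I M)) :=
        Submodule.smul_mono (Ideal.pow_le_pow_right n.le_succ) le_rfl (hy (n + 1))
      convert add_mem (sub_mem h1 (hy n)) h2 using 1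
      simp only [map_sub, Nat.succ_eq_add_one]
      abel
    refine ⟨AdicCompletion.mk I M (AdicCompletion.AdicCauchySequence.mk I M y hc), fun n => ?_⟩
    rw [SModEq.sub_mem]
    set L := AdicCompletion.mk I M (AdicCompletion.AdicCauchySequence.mk I M y hc)
    obtain ⟨z, hz⟩ := h n (L - AdicCompletion.of I M (y n))
    have h0 : z ∈ (I ^ n • ⊤ : Submodule A M) := by
      have h1 := val_eq_zero_of_mem hz
      rw [AdicCompletion.val_sub_apply, AdicCompletion.val_sub_apply, show L.val n = Submodule.Quotient.mk (y n) from rfl,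
        AdicCompletion.of_apply, Submodule.mkQ_apply, sub_self, zero_sub, neg_eq_zero,
        AdicCompletion.of_apply, Submodule.mkQ_apply, Submodule.Quotient.mk_eq_zero] at h1
      exact h1
    have h2 := add_mem hz (of_mem h0)
    rw [sub_add_cancel] at h2
    convert sub_mem (hy n) h2 using 1
    abel
  exact { toIsPrecomplete := hp }

theorem finsupp_mem_smul_top {Z : Type w} {J : Ideal A} (f : Z →₀ M) :
    f ∈ (J • ⊤ : Submodule A (Z →₀ M)) ↔ ∀ z, f z ∈ (J • ⊤ : Submodule A M) := by
  constructor
  · intro hf z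
    have h := Submodule.mem_map_of_mem (f := Finsupp.lapply z) hf
    rw [Submodule.map_smul''] at h
    exact Submodule.smul_mono le_rfl le_top h
  · intro h
    rw [← Finsupp.sum_single f]
    refine Submodule.sum_mem _ fun z _ => ?_
    have h' := Submodule.mem_map_of_mem (f := Finsupp.lsingle z) (h z)
    rw [Submodule.map_smul''] at h'
    exact Submodule.smul_mono le_rfl le_top h'

end Groth.Agent.CAlg.AdicAux
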