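import Mathlib

/-! Torsion modules over a discrete valuation ring: cotorsion versus torsion. -/

namespace Groth.Agent.CAlg.DVRTorsion

open TensorProduct IsLocalRing

universe u v

variable {R : Type u} [CommRing R] [IsDomain R] [IsDiscreteValuationRing R] {ϖ : R}
  (hϖ : Irreducible ϖ) (M : Type v) [AddCommGroup M] [Module R M] [Module.Finite R M] {n : ℕ}
  (hM : ∀ m : M, ϖ ^ n • m = 0)

include hϖ hM in
theorem isFiniteLength : IsFiniteLength R M := by
  refine isFiniteLength_iff_isNoetherian_isArtinian.2 ⟨inferInstance, ?_⟩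
  let I : Ideal R := maximalIdeal R ^ n
  have hI : Module.IsTorsionBySet R M (I : Set R) := by
    intro m r
    have key : ∀ s : R, s ∈ I → ∃ c, c * ϖ ^ n = s := by
      intro s h
      rw [show I = Ideal.span {ϖ ^ n} by rw [← Ideal.span_singleton_pow, ← hϖ.maximalIdeal_eq],
        Ideal.mem_span_singleton'] at h
      exact h
    obtain ⟨c, hc⟩ := key r r.2
    show (r : R) • m = 0
    rw [← hc, mul_smul, hM, smul_zero]
  letI : Module (R ⧸ I) M := hI.module
  haveI : IsScalarTower R (R ⧸ I) M := Module.IsTorsionBySet.isScalarTower hI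
  haveI : Module.Finite (R ⧸ I) M := Module.Finite.of_restrictScalars_finite R _ _
  haveI : IsArtinianRing (R ⧸ I) := by
    refine isArtinianRing_iff_krullDimLE_zero.2 (Ring.KrullDimLE.mk₀ fun P hP => ?_)
    haveI := hP.comap (Ideal.Quotient.mk I)
    by_cases h0 : P.comap (Ideal.Quotient.mk I) = ⊥
    · exfalso
      have h1 : I ≤ ⊥ := h0 ▸ fun x hx => by
        show Ideal.Quotient.mk I x ∈ P
        rw [Ideal.Quotient.eq_zero_iff_mem.2 hx]; exact P.zero_mem
      exact pow_ne_zero n (hϖ.ne_zero) ((Submodule.mem_bot R).1 (h1 (Ideal.pow_mem_pow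
        (by rw [hϖ.maximalIdeal_eq]; exact Ideal.mem_span_singleton_self ϖ) n)))
    · have hmax : (P.comap (Ideal.Quotient.mk I)).IsMaximal := Ideal.IsPrime.isMaximal inferInstance h0
      rw [← Ideal.map_comap_of_surjective (Ideal.Quotient.mk I) Ideal.Quotient.mk_surjective P]
      refine (Ideal.map_eq_top_or_isMaximal_of_surjective _ Ideal.Quotient.mk_surjective hmax).resolve_left ?_
      rw [Ideal.map_comap_of_surjective _ Ideal.Quotient.mk_surjective P]
      exact hP.ne_top
  exact isArtinian_of_surjective_algebraMap (S := R) (R := R ⧸ I) Ideal.Quotient.mk_surjective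

include hϖ hM in
theorem finrank_tensor_eq_length :
    (Module.finrank (ResidueField R) (ResidueField R ⊗[R] M) : ℕ∞) =
      Module.length R (LinearMap.ker (LinearMap.lsmul R M ϖ)) := by
  set φ : M →ₗ[R] M := LinearMap.lsmul R M ϖ
  have hfin := isFiniteLength hϖ M hM
  have hne : Module.length R M ≠ ⊤ := Module.length_ne_top_iff.2 hfin
  have h1 : Module.length R M = Module.length R (LinearMap.ker φ) + Module.length R (LinearMap.range φ) :=
    Module.length_eq_add_of_exact (LinearMap.ker φ).subtype φ.rangeRestrict
      (Submodule.injective_subtype _) φ.surjective_rangeRestrict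
      (by rw [LinearMap.exact_iff, LinearMap.ker_rangeRestrict, Submodule.range_subtype])
  have h2 : Module.length R M = Module.length R (LinearMap.range φ) + Module.length R (M ⧸ LinearMap.range φ) :=
    Module.length_eq_add_of_exact (LinearMap.range φ).subtype (LinearMap.range φ).mkQ
      (Submodule.injective_subtype _) (Submodule.mkQ_surjective _) (LinearMap.exact_subtype_mkQ _)
  have h3 : Module.length R (LinearMap.range φ) ≠ ⊤ := by
    intro h; rw [h, add_top] at h1; exact hne h1
  have h4 : Module.length R (LinearMap.ker φ) = Module.length R (M ⧸ LinearMap.range φ) := by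
    rw [h2, add_comm] at h1
    exact (WithTop.add_right_cancel h3 h1).symm
  have hrange : LinearMap.range φ = maximalIdeal R • (⊤ : Submodule R M) := by
    rw [hϖ.maximalIdeal_eq, Submodule.ideal_span_singleton_smul]
    ext x
    simp [φ, Submodule.mem_smul_pointwise_iff_exists]
  let e : (ResidueField R ⊗[R] M) ≃ₗ[R] M ⧸ LinearMap.range φ :=
    (TensorProduct.quotTensorEquivQuotSMul M (maximalIdeal R)).trans (Submodule.quotEquivOfEq _ _ hrange.symm)
  rw [h4, ← e.length_eq, Module.length_eq_of_surjective (R := ResidueField R) residue_surjective,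
    ← Module.length_eq_finrank]

end Groth.Agent.CAlg.DVRTorsion
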