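import Mathlib

/-!
Descent of finitely generated projective modules along a "dense" map of rings `L → L'`:
`L'` carries a filtration `S : ℤ → AddSubgroup L'` (think `S n = t ^ n • Â` in `Â[1/t]`) with
`1 + S 1` consisting of units, `L` dense for it and `1 + (S 1 ∩ L)` units of `L`.
-/

open TensorProduct

namespace Groth.Agent.CAlg.DenseApprox

universe u v

variable {L : Type u} {L' : Type v} [CommRing L] [CommRing L'] [Algebra L L']

/-- The filtration data. -/
structure Filt (L : Type u) (L' : Type v) [CommRing L] [CommRing L'] [Algebra L L'] where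
  S : ℤ → AddSubgroup L'
  anti : Antitone S
  mul_mem : ∀ {a b : ℤ} {x y : L'}, x ∈ S a → y ∈ S b → x * y ∈ S (a + b)
  one_mem : (1 : L') ∈ S 0
  exists_mem : ∀ x : L', ∃ n, x ∈ S n
  approx : ∀ (a : L') (n : ℤ), ∃ l : L, algebraMap L L' l - a ∈ S n
  isUnit : ∀ x ∈ S 1, IsUnit (1 + x)
  isUnit_base : ∀ x : L, algebraMap L L' x ∈ S 1 → IsUnit (1 + x)

variable (F : Filt L L')

/-- All entries lie in `S n`. -/
def Ent (n : ℤ) {ι κ : Type*} (M : Matrix ι κ L') : Prop := ∀ i j, M i j ∈ F.S n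

variable {F} {ι κ μ : Type*}

theorem Ent.mono {a b : ℤ} {M : Matrix ι κ L'} (h : Ent F a M) (hab : b ≤ a) : Ent F b M :=
  fun i j => F.anti hab (h i j)

theorem Ent.add {a : ℤ} {M N : Matrix ι κ L'} (h : Ent F a M) (h' : Ent F a N) :
    Ent F a (M + N) := fun i j => (F.S a).add_mem (h i j) (h' i j)

theorem Ent.neg {a : ℤ} {M : Matrix ι κ L'} (h : Ent F a M) : Ent F a (-M) :=
  fun i j => (F.S a).neg_mem (h i j)

theorem Ent.mul [Fintype κ] {a b : ℤ} {M : Matrix ι κ L'} {N : Matrix κ μ L'}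
    (h : Ent F a M) (h' : Ent F b N) : Ent F (a + b) (M * N) := fun i j => by
  rw [Matrix.mul_apply]
  exact (F.S (a + b)).sum_mem fun k _ => F.mul_mem (h i k) (h' k j)

theorem exists_ent [Finite ι] [Finite κ] (M : Matrix ι κ L') : ∃ n, Ent F n M := by
  choose n hn using fun p : ι × κ => F.exists_mem (M p.1 p.2)
  obtain ⟨m, hm⟩ := Set.Finite.bddBelow (Set.finite_range n)
  exact ⟨m, fun i j => F.anti (hm ⟨(i, j), rfl⟩) (hn (i, j))⟩

theorem exists_ent_approx (F : Filt L L') (M : Matrix ι κ L') (n : ℤ) :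
    ∃ M₀ : Matrix ι κ L, Ent F n (M₀.map (algebraMap L L') - M) := by
  choose l hl using fun p : ι × κ => F.approx (M p.1 p.2) n
  exact ⟨fun i j => l (i, j), fun i j => hl (i, j)⟩

/-- `det (1 + X) - 1 ∈ S 1` for `X` with entries in `S 1`. -/
theorem det_one_add_sub_one_mem [Fintype ι] [DecidableEq ι] {X : Matrix ι ι L'}
    (h : Ent F 1 X) : (1 + X).det - 1 ∈ F.S 1 := by
  let B : Subring L' :=
    { (F.S 0) with
      one_mem' := F.one_mem
      mul_mem' := fun {a b} ha hb => by simpa using F.mul_mem ha hb }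
  let I : Ideal B :=
    { carrier := {x | (x : L') ∈ F.S 1}
      add_mem' := fun {a b} ha hb => (F.S 1).add_mem ha hb
      zero_mem' := (F.S 1).zero_mem
      smul_mem' := fun c x hx => by
        have := F.mul_mem (a := 0) (b := 1) (x := (c : L')) (y := (x : L')) c.2 hx
        simpa using this }
  let XB : Matrix ι ι B := fun i j => ⟨X i j, F.anti (by norm_num) (h i j)⟩
  have hX : XB.map B.subtype = X := rfl
  have hd : B.subtype (1 + XB).det = (1 + X).det := by
    rw [RingHom.map_det, RingHom.mapMatrix_apply,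
      Matrix.map_add _ (map_add _), Matrix.map_one _ (map_zero _) (map_one _), hX]
  have hmod : (1 + XB).det - 1 ∈ I := by
    rw [← Ideal.Quotient.eq_zero_iff_mem, map_sub, RingHom.map_det, RingHom.mapMatrix_apply,
      Matrix.map_add _ (map_add _), Matrix.map_one _ (map_zero _) (map_one _)]
    have : XB.map (Ideal.Quotient.mk I) = 0 := by
      ext i j
      exact Ideal.Quotient.eq_zero_iff_mem.2 (h i j)
    rw [this, add_zero, Matrix.det_one, map_one, sub_self]
  rw [← hd]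
  exact hmod

theorem isUnit_det [Fintype ι] [DecidableEq ι] {X : Matrix ι ι L'} (h : Ent F 1 (X - 1)) :
    IsUnit X.det := by
  have := F.isUnit _ (det_one_add_sub_one_mem h)
  simpa using this

theorem isUnit_det_base [Fintype ι] [DecidableEq ι] {X : Matrix ι ι L}
    (h : Ent F 1 (X.map (algebraMap L L') - 1)) : IsUnit X.det := by
  have h1 := det_one_add_sub_one_mem h
  rw [add_sub_cancel, ← RingHom.mapMatrix_apply, ← RingHom.map_det, ← map_one (algebraMap L L'),
    ← map_sub] at h1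
  simpa using F.isUnit_base _ h1

theorem Ent.isUnit_toLin [Fintype ι] [DecidableEq ι] {M : Type*} [AddCommGroup M] [Module L M]
    (b : Module.Basis ι L M) {X : Matrix ι ι L}
    (h : Ent F 1 (X.map (algebraMap L L') - 1)) : Function.Bijective (Matrix.toLin b b X) := by
  have hu : IsUnit X := (Matrix.isUnit_iff_isUnit_det X).2 (isUnit_det_base h)
  exact (Module.End.isUnit_iff _).1 (hu.map (Matrix.toLinAlgEquiv b))

variable (F)

include F

/-- Finite projective `L`-modules isomorphic over `L'` are isomorphic. -/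
theorem nonempty_linearEquiv (M N : Type*) [AddCommGroup M] [Module L M] [Module.Finite L M]
    [Module.Projective L M] [AddCommGroup N] [Module L N] [Module.Finite L N]
    [Module.Projective L N] (φ : L' ⊗[L] M ≃ₗ[L'] L' ⊗[L] N) : Nonempty (M ≃ₗ[L] N) := by
  obtain ⟨m, p, i, -, hi, hpi⟩ := Module.Finite.exists_comp_eq_id_of_projective L M
  obtain ⟨k, q, j, -, hj, hqj⟩ := Module.Finite.exists_comp_eq_id_of_projective L N
  classical
  set bm := Pi.basisFun L (Fin m)
  set bk := Pi.basisFun L (Fin k)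
  set bm' := Algebra.TensorProduct.basis L' bm
  set bk' := Algebra.TensorProduct.basis L' bk
  set φ' : L' ⊗[L] M →ₗ[L'] L' ⊗[L] N := φ.toLinearMap
  set φs : L' ⊗[L] N →ₗ[L'] L' ⊗[L] M := φ.symm.toLinearMap
  set X := LinearMap.toMatrix bm' bk' (j.baseChange L' ∘ₗ φ' ∘ₗ p.baseChange L')
  set Y := LinearMap.toMatrix bk' bm' (i.baseChange L' ∘ₗ φs ∘ₗ q.baseChange L')
  set P := LinearMap.toMatrix bm bm (i ∘ₗ p)
  set Q := LinearMap.toMatrix bk bk (j ∘ₗ q)
  have hP : P.map (algebraMap L L') =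
      LinearMap.toMatrix bm' bm' (i.baseChange L' ∘ₗ p.baseChange L') := by
    rw [← LinearMap.baseChange_comp, LinearMap.toMatrix_baseChange]
  have hQ : Q.map (algebraMap L L') =
      LinearMap.toMatrix bk' bk' (j.baseChange L' ∘ₗ q.baseChange L') := by
    rw [← LinearMap.baseChange_comp, LinearMap.toMatrix_baseChange]
  have hp' : p.baseChange L' ∘ₗ i.baseChange L' = LinearMap.id := by
    rw [← LinearMap.baseChange_comp, hpi, LinearMap.baseChange_id]
  have hq' : q.baseChange L' ∘ₗ j.baseChange L' = LinearMap.id := by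
    rw [← LinearMap.baseChange_comp, hqj, LinearMap.baseChange_id]
  have hYX : P.map (algebraMap L L') * Y * Q.map (algebraMap L L') * X * P.map (algebraMap L L')
      = P.map (algebraMap L L') := by
    rw [hP, hQ, ← LinearMap.toMatrix_comp, ← LinearMap.toMatrix_comp, ← LinearMap.toMatrix_comp,
      ← LinearMap.toMatrix_comp]
    congr 1
    have hpx : ∀ z, p.baseChange L' (i.baseChange L' z) = z := LinearMap.congr_fun hp'
    have hqx : ∀ z, q.baseChange L' (j.baseChange L' z) = z := LinearMap.congr_fun hq'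
    apply LinearMap.ext; intro x
    simp [φ', φs, hpx, hqx]
  have hXY : Q.map (algebraMap L L') * X * P.map (algebraMap L L') * Y * Q.map (algebraMap L L')
      = Q.map (algebraMap L L') := by
    rw [hP, hQ, ← LinearMap.toMatrix_comp, ← LinearMap.toMatrix_comp, ← LinearMap.toMatrix_comp,
      ← LinearMap.toMatrix_comp]
    congr 1
    have hpx : ∀ z, p.baseChange L' (i.baseChange L' z) = z := LinearMap.congr_fun hp'
    have hqx : ∀ z, q.baseChange L' (j.baseChange L' z) = z := LinearMap.congr_fun hq'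
    apply LinearMap.ext; intro x
    simp [φ', φs, hpx, hqx]
  set P' := P.map (algebraMap L L')
  set Q' := Q.map (algebraMap L L')
  obtain ⟨nX, hnX⟩ := exists_ent (F := F) X
  obtain ⟨nY, hnY⟩ := exists_ent (F := F) Y
  obtain ⟨nP, hnP⟩ := exists_ent (F := F) P'
  obtain ⟨nQ, hnQ⟩ := exists_ent (F := F) Q'
  obtain ⟨c, hc0, hcX, hcY, hcP, hcQ⟩ :
      ∃ c : ℤ, c ≤ 0 ∧ c ≤ nX ∧ c ≤ nY ∧ c ≤ nP ∧ c ≤ nQ :=
    ⟨min 0 (min nX (min nY (min nP nQ))), by omega⟩
  obtain ⟨X₀, hX₀⟩ := exists_ent_approx F X (1 - 4 * c)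
  obtain ⟨Y₀, hY₀⟩ := exists_ent_approx F Y (1 - 4 * c)
  have key : ∀ {α β : Type} [Fintype α] [Fintype β] (A : Matrix α α L') (B : Matrix β β L')
      (Z Z₀ : Matrix α β L') (W W₀ : Matrix β α L'),
      Ent F c A → Ent F c B → Ent F c Z → Ent F c W →
      Ent F (1 - 4 * c) (Z₀ - Z) → Ent F (1 - 4 * c) (W₀ - W) →
      Ent F 1 (A * Z₀ * B * W₀ * A - A * Z * B * W * A) := by
    intro α β _ _ A B Z Z₀ W W₀ hA hB hZ hW hZ₀ hW₀
    have e : A * Z₀ * B * W₀ * A - A * Z * B * W * A =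
        A * (Z₀ - Z) * B * W₀ * A + A * Z * B * (W₀ - W) * A := by
      simp only [mul_sub, sub_mul, Matrix.mul_sub, Matrix.sub_mul]
      abel
    rw [e]
    have hW' : Ent F c W₀ := by
      have := (hW₀.mono (show c ≤ 1 - 4 * c by omega)).add hW
      rwa [sub_add_cancel] at this
    refine Ent.add ?_ ?_
    · exact ((((hA.mul hZ₀).mul hB).mul hW').mul hA).mono (by omega)
    · exact ((((hA.mul hZ).mul hB).mul hW₀).mul hA).mono (by omega)
  set f : (Fin m → L) →ₗ[L] (Fin k → L) := Matrix.toLin bm bk X₀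
  set g : (Fin k → L) →ₗ[L] (Fin m → L) := Matrix.toLin bk bm Y₀
  set ψ : M →ₗ[L] N := q ∘ₗ f ∘ₗ i
  set χ : N →ₗ[L] M := p ∘ₗ g ∘ₗ j
  have hG : Function.Bijective (i ∘ₗ χ ∘ₗ ψ ∘ₗ p + (LinearMap.id - i ∘ₗ p) : (Fin m → L) →ₗ[L] (Fin m → L)) := by
    rw [← Matrix.toLin_toMatrix bm bm (i ∘ₗ χ ∘ₗ ψ ∘ₗ p + (LinearMap.id - i ∘ₗ p))]
    apply Ent.isUnit_toLin (F := F)
    have e : i ∘ₗ χ ∘ₗ ψ ∘ₗ p = (i ∘ₗ p) ∘ₗ g ∘ₗ (j ∘ₗ q) ∘ₗ f ∘ₗ (i ∘ₗ p) := rfl
    rw [e, map_add, map_sub, LinearMap.toMatrix_id, LinearMap.toMatrix_comp bm bm bm,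
      LinearMap.toMatrix_comp bm bk bm, LinearMap.toMatrix_comp bm bk bk,
      LinearMap.toMatrix_comp bm bm bk]
    simp only [f, g, LinearMap.toMatrix_toLin]
    rw [Matrix.map_add _ (map_add _), Matrix.map_sub _ (map_sub _),
      Matrix.map_one _ (map_zero _) (map_one _)]
    simp only [Matrix.map_mul, ← Matrix.mul_assoc]
    have h1 := key P' Q' Y (Y₀.map (algebraMap L L')) X (X₀.map (algebraMap L L'))
      (hnP.mono hcP) (hnQ.mono hcQ) (hnY.mono hcY) (hnX.mono hcX) hY₀ hX₀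
    rw [hYX] at h1
    convert h1 using 1
    abel
  have hG' : Function.Bijective (j ∘ₗ ψ ∘ₗ χ ∘ₗ q + (LinearMap.id - j ∘ₗ q) : (Fin k → L) →ₗ[L] (Fin k → L)) := by
    rw [← Matrix.toLin_toMatrix bk bk (j ∘ₗ ψ ∘ₗ χ ∘ₗ q + (LinearMap.id - j ∘ₗ q))]
    apply Ent.isUnit_toLin (F := F)
    have e : j ∘ₗ ψ ∘ₗ χ ∘ₗ q = (j ∘ₗ q) ∘ₗ f ∘ₗ (i ∘ₗ p) ∘ₗ g ∘ₗ (j ∘ₗ q) := rfl
    rw [e, map_add, map_sub, LinearMap.toMatrix_id, LinearMap.toMatrix_comp bk bk bk,
      LinearMap.toMatrix_comp bk bm bk, LinearMap.toMatrix_comp bk bm bm,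
      LinearMap.toMatrix_comp bk bk bm]
    simp only [f, g, LinearMap.toMatrix_toLin]
    rw [Matrix.map_add _ (map_add _), Matrix.map_sub _ (map_sub _),
      Matrix.map_one _ (map_zero _) (map_one _)]
    simp only [Matrix.map_mul, ← Matrix.mul_assoc]
    have h1 := key Q' P' X (X₀.map (algebraMap L L')) Y (Y₀.map (algebraMap L L'))
      (hnQ.mono hcQ) (hnP.mono hcP) (hnX.mono hcX) (hnY.mono hcY) hX₀ hY₀
    rw [hXY] at h1
    convert h1 using 1
    abel
  have hpx : ∀ z, p (i z) = z := LinearMap.congr_fun hpi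
  have hqx : ∀ z, q (j z) = z := LinearMap.congr_fun hqj
  have hinj : Function.Injective (χ ∘ₗ ψ) := by
    intro a b hab
    apply hi
    apply hG.1
    simp only [LinearMap.add_apply, LinearMap.comp_apply, LinearMap.sub_apply, LinearMap.id_apply,
      hpx, sub_self, add_zero]
    exact congrArg i hab
  have hsur : Function.Surjective (ψ ∘ₗ χ) := by
    intro y
    obtain ⟨z, hz⟩ := hG'.2 (j y)
    refine ⟨q z, ?_⟩
    have := congrArg q hz
    simpa [hqx] using this
  exact ⟨LinearEquiv.ofBijective ψ ⟨Function.Injective.of_comp (f := χ) hinj,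
    Function.Surjective.of_comp (g := χ) hsur⟩⟩

/-- Every stably free `L'`-module is extended from a stably free `L`-module. -/
theorem exists_stablyFree (M' : Type*) [AddCommGroup M'] [Module L' M']
    (h : ∃ n m : ℕ, Nonempty ((M' × (Fin n → L')) ≃ₗ[L'] (Fin m → L'))) :
    ∃ (M : Type u) (_ : AddCommGroup M) (_ : Module L M), Module.Finite L M ∧
      (∃ n m : ℕ, Nonempty ((M × (Fin n → L)) ≃ₗ[L] (Fin m → L))) ∧
      Nonempty (L' ⊗[L] M ≃ₗ[L'] M') := by
  obtain ⟨n, m, ⟨e⟩⟩ := h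
  classical
  set bm := Pi.basisFun L (Fin m)
  set bn := Pi.basisFun L (Fin n)
  set bm' := Algebra.TensorProduct.basis L' bm
  set bn' := Algebra.TensorProduct.basis L' bn
  set em : L' ⊗[L] (Fin m → L) ≃ₗ[L'] (Fin m → L') := bm'.equivFun
  set en : L' ⊗[L] (Fin n → L) ≃ₗ[L'] (Fin n → L') := bn'.equivFun
  set Ul : L' ⊗[L] (Fin m → L) →ₗ[L'] L' ⊗[L] (Fin n → L) :=
    en.symm.toLinearMap ∘ₗ LinearMap.snd L' M' (Fin n → L') ∘ₗ e.symm.toLinearMap ∘ₗ em.toLinearMap
  set Vl : L' ⊗[L] (Fin n → L) →ₗ[L'] L' ⊗[L] (Fin m → L) :=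
    em.symm.toLinearMap ∘ₗ e.toLinearMap ∘ₗ LinearMap.inr L' M' (Fin n → L') ∘ₗ en.toLinearMap
  have hUV : Ul ∘ₗ Vl = LinearMap.id := by
    ext x
    simp [Ul, Vl]
  set U := LinearMap.toMatrix bm' bn' Ul
  set V := LinearMap.toMatrix bn' bm' Vl
  have hUV' : U * V = 1 := by
    rw [← LinearMap.toMatrix_comp, hUV, LinearMap.toMatrix_id]
  obtain ⟨nU, hnU⟩ := exists_ent (F := F) U
  obtain ⟨nV, hnV⟩ := exists_ent (F := F) V
  obtain ⟨c, hc0, hcU, hcV⟩ : ∃ c : ℤ, c ≤ 0 ∧ c ≤ nU ∧ c ≤ nV :=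
    ⟨min 0 (min nU nV), by omega⟩
  obtain ⟨U₀, hU₀⟩ := exists_ent_approx F U (1 - c)
  obtain ⟨V₀, hV₀⟩ := exists_ent_approx F V (1 - c)
  set u : (Fin m → L) →ₗ[L] (Fin n → L) := Matrix.toLin bm bn U₀
  set v : (Fin n → L) →ₗ[L] (Fin m → L) := Matrix.toLin bn bm V₀
  have huv : Function.Bijective (u ∘ₗ v) := by
    rw [← Matrix.toLin_toMatrix bn bn (u ∘ₗ v)]
    apply Ent.isUnit_toLin (F := F)
    rw [LinearMap.toMatrix_comp bn bm bn]
    simp only [u, v, LinearMap.toMatrix_toLin]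
    rw [Matrix.map_mul]
    have e1 : U₀.map (algebraMap L L') * V₀.map (algebraMap L L') - 1 =
        (U₀.map (algebraMap L L') - U) * V₀.map (algebraMap L L') +
          U * (V₀.map (algebraMap L L') - V) := by
      rw [← hUV', Matrix.sub_mul, Matrix.mul_sub]
      abel
    rw [e1]
    have hV' : Ent F c (V₀.map (algebraMap L L')) := by
      have := (hV₀.mono (show c ≤ 1 - c by omega)).add (hnV.mono hcV)
      rwa [sub_add_cancel] at this
    exact Ent.add ((hU₀.mul hV').mono (by omega)) (((hnU.mono hcU).mul hV₀).mono (by omega))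
  set w : (Fin n → L) →ₗ[L] (Fin m → L) :=
    v ∘ₗ (LinearEquiv.ofBijective _ huv).symm.toLinearMap
  have huw : ∀ y, u (w y) = y := fun y => (LinearEquiv.ofBijective _ huv).apply_symm_apply y
  -- the module
  set r : (Fin m → L) →ₗ[L] LinearMap.ker u :=
    (LinearMap.id - w ∘ₗ u).codRestrict (LinearMap.ker u) (fun x => by simp [huw])
  have hr : r ∘ₗ (LinearMap.ker u).subtype = LinearMap.id := by
    ext x
    have hx : u x.1 = 0 := x.2
    simp [r, hx]
  have hrsur : Function.Surjective r := fun x => ⟨x.1, LinearMap.congr_fun hr x⟩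
  have eqv : (LinearMap.ker u × (Fin n → L)) ≃ₗ[L] (Fin m → L) :=
    LinearEquiv.ofLinearMap ((LinearMap.ker u).subtype.coprod w) (r.prod u)
      (LinearMap.ext fun x => by simp [r])
      (LinearMap.ext fun z => by
        obtain ⟨x, y⟩ := z
        have hx : u x.1 = 0 := x.2
        refine Prod.ext (Subtype.ext ?_) ?_
        · simp [r, hx, huw]
        · simp [hx, huw])
  refine ⟨LinearMap.ker u, inferInstance, inferInstance, Module.Finite.of_surjective r hrsur,
    ⟨n, m, ⟨eqv⟩⟩, ?_⟩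
  set s := (LinearMap.ker u).subtype.baseChange L'
  have hs : Function.Injective s := by
    apply Function.LeftInverse.injective (g := r.baseChange L')
    intro x
    rw [← LinearMap.comp_apply, ← LinearMap.baseChange_comp, hr, LinearMap.baseChange_id]
    rfl
  have hex : Function.Exact s (u.baseChange L') := by
    have h0 : Function.Exact (LinearMap.ker u).subtype u := LinearMap.exact_subtype_ker_map u
    exact lTensor_exact L' h0 (fun y => ⟨w y, huw y⟩)
  set U₀' := U₀.map (algebraMap L L')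
  have hu' : LinearMap.toMatrix bm' bn' (u.baseChange L') = U₀' := by
    rw [LinearMap.toMatrix_baseChange]
    simp [u, U₀']
  set G : Matrix (Fin m) (Fin m) L' := 1 + V * (U₀' - U)
  have hGu : IsUnit G.det := isUnit_det (F := F) (by
    simp only [G, add_sub_cancel_left]
    exact ((hnV.mono hcV).mul hU₀).mono (by omega))
  set g := Matrix.toLin bm' bm' G
  have hg : Function.Bijective g :=
    (Module.End.isUnit_iff _).1
      (((Matrix.isUnit_iff_isUnit_det G).2 hGu).map (Matrix.toLinAlgEquiv bm'))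
  have hUg : ∀ x, Ul (g x) = u.baseChange L' x := by
    intro x
    have h1 : U * G = U₀' := by
      simp only [G, Matrix.mul_add, Matrix.mul_one, ← Matrix.mul_assoc, hUV', Matrix.one_mul]
      abel
    have h2 : Ul ∘ₗ g = u.baseChange L' := by
      apply (LinearMap.toMatrix bm' bn').injective
      rw [LinearMap.toMatrix_comp bm' bm' bn', LinearMap.toMatrix_toLin, hu']
      exact h1
    exact LinearMap.congr_fun h2 x
  let h : L' ⊗[L] LinearMap.ker u →ₗ[L'] M' :=
    LinearMap.fst L' M' (Fin n → L') ∘ₗ e.symm.toLinearMap ∘ₗ em.toLinearMap ∘ₗ g ∘ₗ s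
  refine ⟨LinearEquiv.ofBijective h ⟨?_, ?_⟩⟩
  · rw [← LinearMap.ker_eq_bot, LinearMap.ker_eq_bot']
    intro x hx
    have h2 : Ul (g (s x)) = 0 := by
      rw [hUg]; exact hex.apply_apply_eq_zero x
    have h2' : (e.symm (em (g (s x)))).2 = 0 := by
      simpa [Ul] using h2
    have h3 : e.symm (em (g (s x))) = 0 := Prod.ext hx h2'
    rw [LinearEquiv.map_eq_zero_iff, LinearEquiv.map_eq_zero_iff,
      map_eq_zero_iff _ hg.1, map_eq_zero_iff _ hs] at h3
    exact h3
  · intro y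
    obtain ⟨z, hz⟩ := hg.2 (em.symm (e (y, 0)))
    have h2 : u.baseChange L' z = 0 := by
      rw [← hUg, hz]; simp [Ul]
    obtain ⟨x, rfl⟩ := (hex z).1 h2
    refine ⟨x, ?_⟩
    simp [h, hz]

end Groth.Agent.CAlg.DenseApprox
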