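import Mathlib
import Groth.Agent.CAlg.DenseApprox

/-! Instances of `DenseApprox.Filt` for a ring `L'` obtained from `B` by inverting `T`. -/

namespace Groth.Agent.CAlg.DenseApprox

universe u v w

variable {L : Type u} {L' : Type v} [CommRing L] [CommRing L'] [Algebra L L']
  {B : Type w} [CommRing B]

/-- `S n = u ^ n • ι(B)`. -/
noncomputable def level (ι : B →+* L') (u : L'ˣ) (n : ℤ) : AddSubgroup L' :=
  ((AddMonoidHom.mulLeft ((u ^ n : L'ˣ) : L')).comp ι.toAddMonoidHom).range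

theorem mem_level {ι : B →+* L'} {u : L'ˣ} {n : ℤ} {x : L'} :
    x ∈ level ι u n ↔ ∃ y, ((u ^ n : L'ˣ) : L') * ι y = x := Iff.rfl

/-- The filtration by powers of a unit coming from `B`. -/
noncomputable def Filt.ofAway (ι : B →+* L') (u : L'ˣ) (T : B) (hu : ι T = u)
    (hgen : ∀ x : L', ∃ (k : ℕ) (y : B), x * (u : L') ^ k = ι y)
    (linv : L) (hlinv : algebraMap L L' linv = ((u⁻¹ : L'ˣ) : L'))
    (happ : ∀ (y : B) (k : ℕ), ∃ (l : L) (z : B), algebraMap L L' l - ι y = (u : L') ^ k * ι z)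
    (hjac : ∀ y : B, IsUnit (1 + T * y))
    (hbase : ∀ (x : L) (y : B), algebraMap L L' x = (u : L') * ι y → IsUnit (1 + x)) :
    Filt L L' where
  S := level ι u
  anti a b hab x := by
    rintro ⟨y, rfl⟩
    obtain ⟨k, rfl⟩ : ∃ k : ℕ, b = a + k := ⟨(b - a).toNat, by omega⟩
    refine ⟨T ^ k * y, ?_⟩
    simp [map_mul, hu, zpow_add, mul_assoc]
  mul_mem {a b x y} := by
    rintro ⟨x, rfl⟩ ⟨y, rfl⟩
    refine ⟨x * y, ?_⟩
    simp [map_mul, zpow_add]
    ring
  one_mem := ⟨1, by simp⟩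
  exists_mem x := by
    obtain ⟨k, y, hy⟩ := hgen x
    refine ⟨-(k : ℤ), y, ?_⟩
    show ((u ^ (-(k : ℤ)) : L'ˣ) : L') * ι y = x
    rw [← hy, ← Units.val_pow_eq_pow_val, mul_left_comm, ← Units.val_mul, zpow_neg, zpow_natCast,
      inv_mul_cancel, Units.val_one, mul_one]
  approx a n := by
    obtain ⟨k, y, hy⟩ := hgen a
    obtain ⟨l, z, hl⟩ := happ y (n + k).toNat
    refine ⟨linv ^ k * l, mem_level.2 ⟨T ^ (((n + k).toNat : ℤ) - (n + k)).toNat * z, ?_⟩⟩
    have ha : a = ((u⁻¹ : L'ˣ) : L') ^ k * ι y := by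
      rw [← hy, mul_left_comm, ← mul_pow, Units.inv_mul, one_pow, mul_one]
    rw [map_mul (algebraMap L L'), map_pow (algebraMap L L'), hlinv, ha, ← mul_sub, hl, map_mul, map_pow, hu, ← mul_assoc,
      ← mul_assoc]
    simp only [← Units.val_pow_eq_pow_val, ← Units.val_mul]
    congr 2
    rw [← zpow_natCast, ← zpow_natCast, ← zpow_natCast, inv_zpow', ← zpow_add, ← zpow_add]
    congr 1
    omega
  isUnit x := by
    rintro ⟨y, rfl⟩
    simpa [hu] using (hjac y).map ι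
  isUnit_base x := by
    rintro ⟨y, hy⟩
    exact hbase x y (by simpa using hy.symm)

end Groth.Agent.CAlg.DenseApprox
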