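import Mathlib

/-! McCoy for square matrices; determinants of integral matrices are integral. -/

namespace Groth.Agent.CAlg.DetRegular

open Matrix Polynomial

variable {R : Type*} [CommRing R] {ι : Type*} [Fintype ι] [DecidableEq ι]

theorem det_mem_nonZeroDivisors_of_injective_aux [IsNoetherianRing R] (M : Matrix ι ι R)
    (h : Function.Injective M.mulVec) : M.det ∈ nonZeroDivisors R := by
  by_contra hd
  have h' : M.det ∈ ⋃ p ∈ associatedPrimes R R, (p : Set R) := by
    rw [biUnion_associatedPrimes_eq_compl_nonZeroDivisors R]; exact hd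
  simp only [Set.mem_iUnion, SetLike.mem_coe] at h'
  obtain ⟨p, hp, hdp⟩ := h'
  obtain ⟨hprime, c, hc⟩ := isAssociatedPrime_iff.1 (AssociatedPrimes.mem_iff.1 hp)
  have hmem : ∀ r : R, r ∈ p ↔ r * c = 0 := fun r => by rw [hc]; simp [Submodule.mem_colon_singleton, smul_eq_mul]
  haveI := hprime
  have h0 : (M.map (Ideal.Quotient.mk p)).det = 0 := by
    rw [show (M.map (Ideal.Quotient.mk p)).det = Ideal.Quotient.mk p M.det from ((Ideal.Quotient.mk p).map_det M).symm]
    exact Ideal.Quotient.eq_zero_iff_mem.2 hdp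
  obtain ⟨w, hw0, hw⟩ := Matrix.exists_mulVec_eq_zero_iff.2 h0
  choose v hv using fun i => Ideal.Quotient.mk_surjective (w i)
  obtain rfl : (fun i => Ideal.Quotient.mk p (v i)) = w := funext hv
  have h1 : ∀ i, (M *ᵥ v) i ∈ p := fun i => by
    rw [← Ideal.Quotient.eq_zero_iff_mem]
    have := congrFun hw i
    simpa [Matrix.mulVec, dotProduct] using this
  have h2 : (c • v) = 0 := h (by
    rw [Matrix.mulVec_smul, Matrix.mulVec_zero]
    funext i
    simpa [mul_comm] using (hmem _).1 (h1 i))
  exact hw0 (funext fun i => Ideal.Quotient.eq_zero_iff_mem.2 ((hmem _).2 (by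
    simpa [mul_comm] using congrFun h2 i)))

theorem det_mem_nonZeroDivisors_of_injective (M : Matrix ι ι R)
    (h : Function.Injective M.mulVec) : M.det ∈ nonZeroDivisors R := by
  classical
  rw [mem_nonZeroDivisors_iff_right]
  intro a ha
  let S := Algebra.adjoin ℤ (insert a (Set.range fun x : ι × ι => M x.1 x.2))
  haveI : Algebra.FiniteType ℤ S := (Subalgebra.fg_iff_finiteType _).1
    (Subalgebra.fg_def.2 ⟨_, (Set.finite_range _).insert a, rfl⟩)
  haveI : IsNoetherianRing S := Algebra.FiniteType.isNoetherianRing ℤ S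
  let M' : Matrix ι ι S := fun i j => ⟨M i j, Algebra.subset_adjoin (Or.inr ⟨(i, j), rfl⟩)⟩
  have hM : M'.map S.val = M := rfl
  have hinj : Function.Injective M'.mulVec := fun v w hvw => funext fun i => Subtype.ext
    (congrFun (h (a₁ := S.val ∘ v) (a₂ := S.val ∘ w) (funext fun k => by
      have h1 := S.val.toRingHom.map_mulVec M' v k
      have h2 := S.val.toRingHom.map_mulVec M' w k
      rw [hvw] at h1
      exact h1.symm.trans h2)) i)
  have hd : (M'.det : R) = M.det := S.val.toRingHom.map_det M'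
  have := mem_nonZeroDivisors_iff_right.1 (det_mem_nonZeroDivisors_of_injective_aux M' hinj)
    ⟨a, Algebra.subset_adjoin (Or.inl rfl)⟩ (Subtype.ext (show a * (M'.det : R) = 0 by rw [hd]; exact ha))
  exact congrArg Subtype.val this

theorem injective_mulVec_iff (M : Matrix ι ι R) :
    Function.Injective M.mulVec ↔ M.det ∈ nonZeroDivisors R := by
  refine ⟨det_mem_nonZeroDivisors_of_injective M, fun hd v w hvw => funext fun i => ?_⟩
  have h := congrArg M.adjugate.mulVec hvw
  rw [Matrix.mulVec_mulVec, Matrix.mulVec_mulVec, Matrix.adjugate_mul, Matrix.smul_mulVec, Matrix.smul_mulVec,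
    Matrix.one_mulVec, Matrix.one_mulVec] at h
  exact ((isRegular_iff_mem_nonZeroDivisors).2 hd).left (congrFun h i)

/-- The determinant of a matrix killed by a monic polynomial over `Γ` is integral over `Γ`. -/
theorem isIntegralElem_det {Γ F : Type*} [CommRing Γ] [Field F] [IsAlgClosed F] (ψ : Γ →+* F)
    (M : Matrix ι ι F) {Q : Γ[X]} (hQ : Q.Monic) (hQM : aeval M (Q.map ψ) = 0) : ψ.IsIntegralElem M.det := by
  letI := ψ.toAlgebra
  rw [Matrix.det_eq_prod_roots_charpoly]
  refine IsIntegral.multiset_prod fun x hx => ⟨Q, hQ, ?_⟩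
  have hx' : M.charpoly.IsRoot x := (mem_roots (M.charpoly_monic.ne_zero)).1 hx
  haveI : Nonempty ι := by
    by_contra h
    haveI := not_nonempty_iff.1 h
    simp [IsRoot, Matrix.charpoly] at hx'
  have hs : (Q.map ψ).eval x ∈ spectrum F (aeval M (Q.map ψ)) :=
    spectrum.subset_polynomial_aeval M _ ⟨x, Matrix.mem_spectrum_iff_isRoot_charpoly.2 hx', rfl⟩
  rw [hQM, spectrum.zero_eq, Set.mem_singleton_iff, eval_map] at hs
  exact hs

end Groth.Agent.CAlg.DetRegular
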