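import Mathlib

/-! Pole orders for logarithmic connections on the affine line. -/

namespace Groth.Agent.CAlg.LogDeriv

open Polynomial

universe u

variable {R : Type u} [CommRing R] {d r : ℕ} {θ : Fin r → R}

theorem eval_derivative_prod (θ : Fin r → R) (i : Fin r) :
    (derivative (∏ k, (X - C (θ k)))).eval (θ i) = ∏ k ∈ Finset.univ.erase i, (θ i - θ k) := by
  classical
  rw [← Finset.mul_prod_erase _ _ (Finset.mem_univ i), derivative_mul]
  simp [eval_prod]

theorem dvd_of_eval_eq_zero (hθ : ∀ i k, i ≠ k → IsUnit (θ i - θ k)) {q : R[X]}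
    (h : ∀ i, q.eval (θ i) = 0) : (∏ i, (X - C (θ i))) ∣ q :=
  Fintype.prod_dvd_of_coprime (fun i k hik => isCoprime_X_sub_C_of_isUnit_sub (hθ i k hik))
    fun i => dvd_iff_isRoot.2 (h i)

theorem exists_interpolation (hθ : ∀ i k, i ≠ k → IsUnit (θ i - θ k)) (y : Fin r → R) :
    ∃ q : R[X], ∀ i, q.eval (θ i) = y i := by
  classical
  have hu : ∀ i, IsUnit (∏ k ∈ Finset.univ.erase i, (θ i - θ k)) := fun i =>
    (IsUnit.prod_iff).2 fun k hk => hθ i k (Finset.ne_of_mem_erase hk).symm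
  refine ⟨∑ i, C (y i * ((hu i).unit⁻¹ : Rˣ)) * ∏ k ∈ Finset.univ.erase i, (X - C (θ k)), fun i => ?_⟩
  rw [eval_finsetSum, Finset.sum_eq_single i]
  · simp only [eval_mul, eval_C, eval_prod, eval_sub, eval_X, mul_assoc, IsUnit.val_inv_mul, mul_one]
  · intro j _ hj
    simp only [eval_mul, eval_prod, eval_sub, eval_X, eval_C]
    exact mul_eq_zero_of_right _ (Finset.prod_eq_zero (Finset.mem_erase.2 ⟨hj.symm, Finset.mem_univ i⟩) (sub_self (θ i)))
  · intro h; exact absurd (Finset.mem_univ i) h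

theorem eval_D₀ (D₀ : (Fin d → R[X]) →+ (Fin d → R[X])) {Θ : R[X]} (hΘ : Θ = ∏ i, (X - C (θ i)))
    (hD₀ : ∀ (p : R[X]) (v : Fin d → R[X]), D₀ (p • v) = (Θ * derivative p) • v + p • D₀ v)
    (Res : Fin r → ((Fin d → R) →ₗ[R] (Fin d → R)))
    (hRes : ∀ (i : Fin r) (m : Fin d → R) (j : Fin d), (D₀ (fun j => C (m j)) j).eval (θ i) =
      (∏ k ∈ Finset.univ.erase i, (θ i - θ k)) * Res i m j)
    (u : Fin d → R[X]) (i : Fin r) (j : Fin d) :
    (D₀ u j).eval (θ i) =
      (∏ k ∈ Finset.univ.erase i, (θ i - θ k)) * Res i (fun j => (u j).eval (θ i)) j := by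
  classical
  have hΘi : Θ.eval (θ i) = 0 := by
    rw [hΘ, eval_prod]
    exact Finset.prod_eq_zero (Finset.mem_univ i) (by simp)
  have hu : u = ∑ l, u l • (fun j => C ((Pi.single l (1 : R) : Fin d → R) j)) := by
    funext j
    simp [Finset.sum_apply, Pi.single_apply]
  have hm : (fun j => (u j).eval (θ i)) = ∑ l, (u l).eval (θ i) • (Pi.single l (1 : R) : Fin d → R) := by
    funext j
    simp [Finset.sum_apply, Pi.single_apply]
  rw [hm, map_sum, Finset.sum_apply, Finset.mul_sum]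
  conv_lhs => rw [hu, map_sum, Finset.sum_apply, eval_finsetSum]
  refine Finset.sum_congr rfl fun l _ => ?_
  rw [hD₀, map_smul]
  simp [hΘi, hRes, mul_left_comm]

theorem isUnit_det_sub [Algebra ℂ R] (Res : (Fin d → R) →ₗ[R] (Fin d → R))
    (hχ : ∃ χ : ℂ[X], Res.charpoly = χ.map (algebraMap ℂ R) ∧ ∀ n : ℤ, n ≠ 0 → χ.eval (n : ℂ) ≠ 0)
    (n : ℕ) : IsUnit (LinearMap.det (Res - ((n + 1 : ℕ) : R) • (LinearMap.id : (Fin d → R) →ₗ[R] (Fin d → R)))) := by
  obtain ⟨χ, h1, h2⟩ := hχ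
  have h3 : χ.eval (((n + 1 : ℕ) : ℤ) : ℂ) ≠ 0 := h2 _ (by omega)
  have hu : IsUnit (Res.charpoly.eval ((n + 1 : ℕ) : R)) := by
    rw [h1, eval_map, ← map_natCast (algebraMap ℂ R) (n + 1), eval₂_at_apply]
    refine (IsUnit.mk0 _ ?_).map _
    simpa using h3
  rw [LinearMap.eval_charpoly] at hu
  have e : Res - ((n + 1 : ℕ) : R) • (LinearMap.id : (Fin d → R) →ₗ[R] (Fin d → R)) =
      (-1 : R) • (algebraMap R (Module.End R (Fin d → R)) ((n + 1 : ℕ) : R) - Res) := by
    refine LinearMap.ext fun v => ?_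
    funext j
    simp [Pi.natCast_apply, add_mul]
  rw [e, LinearMap.det_smul]
  exact ((isUnit_one.neg).pow _).mul hu

section Loc

variable (Θ : R[X]) (D₀ : (Fin d → R[X]) →+ (Fin d → R[X]))
  (D : (Fin d → Localization.Away Θ) →+ (Fin d → Localization.Away Θ))
  (hD : ∀ (p : R[X]) (w : Fin d → Localization.Away Θ), D (p • w) = (Θ * derivative p) • w + p • D w)
  (hDD₀ : ∀ v : Fin d → R[X], D (fun j => algebraMap R[X] (Localization.Away Θ) (v j)) =
    fun j => algebraMap R[X] (Localization.Away Θ) (D₀ v j))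

include hD hDD₀ in
theorem pow_smul_D (n : ℕ) (w : Fin d → Localization.Away Θ) (u : Fin d → R[X])
    (hw : Θ ^ (n + 1) • w = fun j => algebraMap R[X] _ (u j)) :
    Θ ^ (n + 1) • D w = fun j => algebraMap R[X] _ (D₀ u j - (((n + 1 : ℕ) : R[X]) * derivative Θ) * u j) := by
  have h := hD (Θ ^ (n + 1)) w
  rw [hw, hDD₀] at h
  funext j
  have hj := congrFun h j
  have hwj := congrFun hw j
  simp only [Pi.add_apply, Pi.smul_apply] at hj hwj ⊢
  rw [Algebra.smul_def] at hwj ⊢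
  rw [Algebra.smul_def, Algebra.smul_def] at hj
  rw [map_sub, hj, map_mul, map_mul, ← hwj, derivative_pow, Nat.add_sub_cancel]
  simp only [map_mul, map_pow, map_natCast]
  push_cast
  ring

theorem exists_pow_smul_eq (w : Fin d → Localization.Away Θ) :
    ∃ (n : ℕ) (v : Fin d → R[X]), Θ ^ n • w = fun j => algebraMap R[X] _ (v j) := by
  obtain ⟨⟨_, n, rfl⟩, hb⟩ := IsLocalization.exist_integer_multiples_of_finite (Submonoid.powers Θ) w
  choose v hv using hb
  exact ⟨n, v, funext fun j => (hv j).symm⟩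

theorem smul_cancel {n : ℕ} {w w' : Fin d → Localization.Away Θ} (h : Θ ^ n • w = Θ ^ n • w') : w = w' := by
  funext j
  have hu : IsUnit (algebraMap R[X] (Localization.Away Θ) (Θ ^ n)) := by
    rw [map_pow]; exact (IsLocalization.Away.algebraMap_isUnit Θ).pow n
  have := congrFun h j
  simp only [Pi.smul_apply, Algebra.smul_def] at this
  exact hu.mul_left_cancel this

end Loc

end Groth.Agent.CAlg.LogDeriv
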