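import Mathlib

/-! Minimal primes over an ideal of a Noetherian ring consist of zero divisors modulo it. -/
namespace Groth.Agent.CAlg.MinPrime
theorem exists_smul_eq_zero_of_mem_minimalPrimes {R : Type*} [CommRing R] [IsNoetherianRing R]
    {I p : Ideal R} (hp : p ∈ I.minimalPrimes) {x : R} (hx : x ∈ p) :
    ∃ z : R ⧸ I, z ≠ 0 ∧ Ideal.Quotient.mk I x * z = 0 := by
  have hass : p ∈ associatedPrimes R (R ⧸ I) := by
    refine Module.associatedPrimes.minimalPrimes_annihilator_subset_associatedPrimes R (R ⧸ I) ?_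
    rw [Ideal.annihilator_quotient]
    exact hp
  obtain ⟨hprime, z, hz⟩ := isAssociatedPrime_iff.1 hass
  refine ⟨z, ?_, ?_⟩
  · rintro rfl
    refine hprime.ne_top ?_
    rw [hz, eq_top_iff]
    intro r _
    rw [Submodule.mem_colon_singleton]
    simp
  · rw [hz, Submodule.mem_colon_singleton, Submodule.mem_bot, Algebra.smul_def] at hx
    exact hx
end Groth.Agent.CAlg.MinPrime
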