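import Groth.Agent.CAlg.PairWeierstrass
import Mathlib.RingTheory.Smooth.NoetherianDescent
import Mathlib.RingTheory.AdicCompletion.Completeness

/-! The map from the henselization of `R[t]` along `(t)` to `R⟦t⟧`, its injectivity for Noetherian
`R`, descent of elements to finitely generated subrings, and idempotents after inverting `t`. -/

namespace Groth.Agent.CAlg.PairPowerSeries

universe u

open Polynomial TensorProduct

section

variable {R : Type u} [CommRing R] {B : Type u} [CommRing B] [Algebra R[X] B]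
  (hB : Hens2.IsPairHenselization R[X] (Ideal.span {(X : R[X])}) B)

include hB

theorem existsUnique_toPowerSeries :
    ∃! G : B →+* PowerSeries R, G.comp (algebraMap R[X] B) = Polynomial.coeToPowerSeries.ringHom := by
  haveI : HenselianRing (PowerSeries R) (Ideal.span {(PowerSeries.X : PowerSeries R)}) := inferInstance
  refine hB.2 _ (Ideal.span {(PowerSeries.X : PowerSeries R)}) _ ‹_› ?_
  rw [Ideal.map_span, Set.image_singleton, coeToPowerSeries.ringHom_apply, Polynomial.coe_X]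

theorem isSMulRegular_X (n : ℕ) : IsSMulRegular B (algebraMap R[X] B (X ^ n)) :=
  haveI := Groth.Agent.Hens.flat_of_isPairHenselization hB
  IsSMulRegular.of_flat (show IsSMulRegular R[X] ((X : R[X]) ^ n) from fun a b hab => (monic_X_pow n).isRegular.left hab)

/-- For Noetherian `R`, `B → R⟦t⟧` is injective. -/
theorem injective_toPowerSeries [IsNoetherianRing R] (G : B →+* PowerSeries R)
    (hG : G.comp (algebraMap R[X] B) = Polynomial.coeToPowerSeries.ringHom) : Function.Injective G := by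
  haveI := hB.1
  rw [injective_iff_map_eq_zero]
  intro x hx
  obtain ⟨S, _, _, hS, hbij, θ, c, rfl⟩ := Groth.Agent.CAlg.PairWeierstrass.exists_stage hB x
  haveI : IsNoetherianRing S := Algebra.FiniteType.isNoetherianRing R[X] S
  have hdec : ∀ k : ℕ, ∀ y : S, ∃ (q : R[X]) (z : S), y = algebraMap R[X] S q + algebraMap R[X] S X ^ k * z := by
    intro k
    induction k with
    | zero => exact fun y => ⟨0, y, by simp⟩
    | succ k ih =>
      intro y
      obtain ⟨q, z, rfl⟩ := ih y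
      obtain ⟨w, hw⟩ := hbij.2 (Ideal.Quotient.mk _ z)
      obtain ⟨r, rfl⟩ := Ideal.Quotient.mk_surjective w
      rw [Ideal.quotientMap_mk, Ideal.Quotient.mk_eq_mk_iff_sub_mem, Ideal.map_span, Set.image_singleton] at hw
      obtain ⟨d, hd⟩ := Ideal.mem_span_singleton.1 hw
      refine ⟨q + X ^ k * r, -d, ?_⟩
      rw [show z = algebraMap R[X] S r - algebraMap R[X] S X * d by rw [← hd]; ring, map_add, map_mul, map_pow]
      ring
  have hG' : ∀ q : R[X], G (algebraMap R[X] B q) = (q : PowerSeries R) := fun q => RingHom.congr_fun hG q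
  have hmem : ∀ k : ℕ, c ∈ Ideal.span {algebraMap R[X] S X} ^ k := by
    intro k
    obtain ⟨q, z, hqz⟩ := hdec k c
    have h0 : (q : PowerSeries R) + PowerSeries.X ^ k * G (θ z) = 0 := by
      rw [hqz, map_add, map_mul, map_pow, AlgHom.commutes, AlgHom.commutes, map_add, map_mul, map_pow, hG', hG',
        Polynomial.coe_X] at hx
      exact hx
    obtain ⟨q', rfl⟩ : (X : R[X]) ^ k ∣ q := by
      rw [X_pow_dvd_iff]
      intro i hi
      have h1 := congrArg (PowerSeries.coeff i) h0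
      rw [map_add, Polynomial.coeff_coe, map_zero, PowerSeries.coeff_X_pow_mul', if_neg (by omega), add_zero] at h1
      exact h1
    rw [Ideal.span_singleton_pow, Ideal.mem_span_singleton, hqz, map_mul, map_pow, ← mul_add]
    exact Dvd.intro _ rfl
  obtain ⟨⟨r, hr⟩, hrc⟩ := (Ideal.mem_iInf_smul_pow_eq_bot_iff (I := Ideal.span {algebraMap R[X] S X}) c).1 (by
    rw [Submodule.mem_iInf]; intro i; rw [smul_eq_mul, Ideal.mul_top]; exact hmem i)
  have hu : IsUnit (θ (1 - r)) := by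
    refine Groth.Agent.CAlg.PairWeierstrass.isUnit_of_sub_one_mem (J := (Ideal.span {(X : R[X])}).map (algebraMap R[X] B)) ?_
    obtain ⟨d, rfl⟩ := Ideal.mem_span_singleton.1 hr
    rw [map_sub, map_one, map_mul, AlgHom.commutes, sub_sub_cancel_left, neg_mem_iff]
    exact Ideal.mul_mem_right _ _ (Ideal.mem_map_of_mem _ (Ideal.mem_span_singleton_self _))
  refine hu.mul_right_eq_zero.1 ?_
  rw [← map_mul, sub_mul, one_mul, show r * c = c from hrc, sub_self, map_zero]

/-- Every element comes from the henselization over a finitely generated subring. -/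
theorem exists_descent (b : B) :
    ∃ (R₀ : Subalgebra ℤ R), R₀.FG ∧
      ∃ φ : Groth.Agent.Hens.PairHenselization R₀[X] (Ideal.span {(X : R₀[X])}) →+* B,
        φ.comp (algebraMap R₀[X] _) = (algebraMap R[X] B).comp (mapRingHom R₀.val.toRingHom) ∧
        b ∈ φ.range := by
  classical
  letI : Algebra R B := ((algebraMap R[X] B).comp C).toAlgebra
  haveI : IsScalarTower R R[X] B := IsScalarTower.of_algebraMap_eq' rfl
  obtain ⟨ε, hε0, hε⟩ := Groth.Agent.CAlg.PairWeierstrass.exists_eval_zero hB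
  obtain ⟨S, _, _, hS, hbij, θ, c, rfl⟩ := Groth.Agent.CAlg.PairWeierstrass.exists_stage hB b
  obtain ⟨A₀, S₀, _, _, hA₀, hS₀, ⟨e⟩⟩ := Algebra.Etale.exists_subalgebra_fg (R := ℤ) (A := R[X]) (B := S)
  obtain ⟨s, hs⟩ := TensorProduct.exists_finset (R := A₀) (e c)
  obtain ⟨gA, hgA⟩ := hA₀
  obtain ⟨gS, hgS⟩ := (inferInstance : Algebra.FiniteType A₀ S₀).out
  let ι₁ : S₀ →ₐ[A₀] S := ((e.symm.toAlgHom).restrictScalars A₀).comp Algebra.TensorProduct.includeRight
  let ρ : S₀ →+* R := ε.comp (θ.toRingHom.comp ι₁.toRingHom)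
  let G : Finset R := (gA ∪ s.image Prod.fst).biUnion (fun p => p.support.image p.coeff) ∪ gS.image ρ
  let R₀ : Subalgebra ℤ R := Algebra.adjoin ℤ (G : Set R)
  refine ⟨R₀, ⟨G, rfl⟩, ?_⟩
  let j : R₀[X] →ₐ[ℤ] R[X] := Polynomial.mapAlgHom R₀.val
  have hj : Function.Injective j := Polynomial.map_injective _ Subtype.val_injective
  have hjmem : ∀ p ∈ gA ∪ s.image Prod.fst, p ∈ j.range := by
    intro p hp
    have : p ∈ lifts (R₀.val.toRingHom) := by
      rw [lifts_iff_coeff_lifts]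
      intro i
      by_cases hi : i ∈ p.support
      · exact ⟨⟨p.coeff i, Algebra.subset_adjoin (Finset.mem_union_left _
          (Finset.mem_biUnion.2 ⟨p, hp, Finset.mem_image_of_mem _ hi⟩))⟩, rfl⟩
      · exact ⟨0, by rw [notMem_support_iff.1 hi]; exact map_zero _⟩
    obtain ⟨q, hq⟩ := (mem_lifts _).1 this
    exact ⟨q, hq⟩
  have hA₀j : A₀ ≤ j.range := by
    rw [← hgA, Algebra.adjoin_le_iff]
    exact fun p hp => hjmem p (Finset.mem_union_left _ hp)
  let ι₀ : A₀ →ₐ[ℤ] R₀[X] := (AlgEquiv.ofInjective j hj).symm.toAlgHom.comp (Subalgebra.inclusion hA₀j)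
  have hι₀ : ∀ a, j (ι₀ a) = (a : R[X]) := fun a => by
    show ((AlgEquiv.ofInjective j hj) ((AlgEquiv.ofInjective j hj).symm (Subalgebra.inclusion hA₀j a)) : R[X]) = _
    rw [AlgEquiv.apply_symm_apply]; rfl
  letI : Algebra A₀ R₀[X] := ι₀.toRingHom.toAlgebra
  have hcoe : ∀ p : R₀[X], ((p.coeff 0 : R₀) : R) = (j p).coeff 0 := fun p => (Polynomial.coeff_map R₀.val.toRingHom 0).symm
  have hρA : ∀ a : A₀, ρ (algebraMap A₀ S₀ a) = (a : R[X]).coeff 0 := fun a => by
    show ε (θ (ι₁ (algebraMap A₀ S₀ a))) = _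
    rw [AlgHom.commutes, IsScalarTower.algebraMap_apply A₀ R[X] S, AlgHom.commutes, hε0]
    rfl
  have hρ : ∀ z : S₀, ρ z ∈ R₀ := by
    intro z
    have hz : z ∈ Algebra.adjoin A₀ (gS : Set S₀) := hgS ▸ Algebra.mem_top
    induction hz using Algebra.adjoin_induction with
    | mem x hx => exact Algebra.subset_adjoin (Finset.mem_union_right _ (Finset.mem_image_of_mem _ hx))
    | algebraMap a => rw [hρA, ← hι₀, ← hcoe]; exact SetLike.coe_mem _
    | add x y _ _ hx hy => rw [map_add]; exact add_mem hx hy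
    | mul x y _ _ hx hy => rw [map_mul]; exact mul_mem hx hy
  let I₀ : Ideal R₀[X] := Ideal.span {X}
  let ρ₁ : S₀ →+* R₀ := ρ.codRestrict R₀ hρ
  let ρ₀ : S₀ →ₐ[A₀] R₀[X] ⧸ I₀ :=
    { toRingHom := (Ideal.Quotient.mk I₀).comp (C.comp ρ₁)
      commutes' := fun a => by
        show Ideal.Quotient.mk I₀ (C (ρ₁ (algebraMap A₀ S₀ a))) = Ideal.Quotient.mk I₀ (ι₀ a)
        rw [Ideal.Quotient.mk_eq_mk_iff_sub_mem, Ideal.mem_span_singleton, X_dvd_iff, coeff_sub, coeff_C_zero, sub_eq_zero]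
        refine Subtype.ext ?_
        rw [hcoe, hι₀]
        exact hρA a }
  let σ : R₀[X] ⊗[A₀] S₀ →ₐ[R₀[X]] R₀[X] ⧸ I₀ :=
    Algebra.TensorProduct.lift (Algebra.ofId _ _) ρ₀ (fun x y => @Commute.all (R₀[X] ⧸ I₀) _ _ _)
  obtain ⟨θ₀, hθ₀, -⟩ := Groth.Agent.Hens.existsUnique_algHom_pair (A := R₀[X]) (I := I₀) (S := R₀[X] ⊗[A₀] S₀) σ
  haveI := hB.1
  set J := (Ideal.span {(X : R[X])}).map (algebraMap R[X] B) with hJ
  have hle : I₀.map ((algebraMap R[X] B).comp (mapRingHom R₀.val.toRingHom)) ≤ J := by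
    rw [Ideal.map_span, Set.image_singleton, RingHom.comp_apply, coe_mapRingHom, map_X, hJ, Ideal.map_span, Set.image_singleton]
  obtain ⟨φ, hφ, -⟩ := (Groth.Agent.Hens.isPairHenselization_pairHenselization (A := R₀[X]) (I := I₀)).2 B J _ ‹_› hle
  refine ⟨φ, hφ, ?_⟩
  letI : Algebra R₀[X] B := ((algebraMap R[X] B).comp (mapRingHom R₀.val.toRingHom)).toAlgebra
  haveI : IsScalarTower A₀ R₀[X] B := IsScalarTower.of_algebraMap_eq fun a => by
    show algebraMap A₀ B a = algebraMap R[X] B (j (ι₀ a))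
    rw [hι₀]
    rfl
  let φA : Groth.Agent.Hens.PairHenselization R₀[X] I₀ →ₐ[R₀[X]] B :=
    { toRingHom := φ, commutes' := fun p => RingHom.congr_fun hφ p }
  let q : R₀[X] ⊗[A₀] S₀ →ₐ[R₀[X]] B :=
    Algebra.TensorProduct.lift (Algebra.ofId _ _) ((θ.restrictScalars A₀).comp ι₁) (fun _ _ => Commute.all _ _)
  have hJC : ∀ p : R₀[X], p ∈ I₀ → algebraMap R₀[X] B p ∈ J := fun p hp => hle (Ideal.mem_map_of_mem _ hp)
  have heq : φA.comp θ₀ = q := by
    haveI : Algebra.EssFiniteType R₀[X] (R₀[X] ⊗[A₀] S₀) := inferInstance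
    refine Groth.Agent.Hensel.algHom_eq_of_sub_mem (R := R₀[X]) (S := R₀[X] ⊗[A₀] S₀) (T := B) (f := φA.comp θ₀) (g := q) (J := J) (HenselianRing.jac) fun w => ?_
    rw [← Ideal.Quotient.eq_zero_iff_mem, map_sub, sub_eq_zero]
    suffices h : (Ideal.Quotient.mkₐ R₀[X] J).comp (φA.comp θ₀) = (Ideal.Quotient.mkₐ R₀[X] J).comp q from
      AlgHom.congr_fun h w
    refine Algebra.TensorProduct.ext (Algebra.ext_id_iff.2 trivial) ?_
    · refine AlgHom.ext fun z => ?_
      show Ideal.Quotient.mk J (φ (θ₀ (1 ⊗ₜ z))) = Ideal.Quotient.mk J (q (1 ⊗ₜ z))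
      have h1 : θ₀ (1 ⊗ₜ z) - algebraMap R₀[X] _ (C (ρ₁ z)) ∈ I₀.map (algebraMap R₀[X] (Groth.Agent.Hens.PairHenselization R₀[X] I₀)) := by
        rw [← Groth.Agent.Hens.ker_pairPoint, RingHom.mem_ker]
        show Groth.Agent.Hens.pairPoint R₀[X] I₀ _ = 0
        rw [map_sub, AlgHom.commutes, show Groth.Agent.Hens.pairPoint R₀[X] I₀ (θ₀ (1 ⊗ₜ z)) = σ (1 ⊗ₜ z) from AlgHom.congr_fun hθ₀ _,
          sub_eq_zero]
        show σ (1 ⊗ₜ z) = Ideal.Quotient.mk I₀ (C (ρ₁ z))
        rw [Algebra.TensorProduct.lift_tmul, map_one]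
        exact one_mul (ρ₀ z)
      have h2 := Ideal.mem_map_of_mem φ h1
      rw [Ideal.map_map, hφ, map_sub, show φ (algebraMap R₀[X] _ (C (ρ₁ z))) = (algebraMap R[X] B).comp (mapRingHom R₀.val.toRingHom) (C (ρ₁ z)) from RingHom.congr_fun hφ _] at h2
      rw [Ideal.Quotient.mk_eq_mk_iff_sub_mem]
      have h3 := hε (θ (ι₁ z))
      rw [show Ideal.span {algebraMap R[X] B X} = J by rw [hJ, Ideal.map_span, Set.image_singleton]] at h3
      have h4 := sub_mem (hle h2) h3
      rw [show q (1 ⊗ₜ z) = θ (ι₁ z) by simp [q]]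
      convert h4 using 1
      rw [RingHom.comp_apply, coe_mapRingHom, map_C, Groth.Agent.CAlg.PairWeierstrass.C_eq]
      show _ = _ - algebraMap R B (ρ z) - _
      rw [show ρ z = ε (θ (ι₁ z)) from rfl]
      ring
  refine ⟨θ₀ (∑ x ∈ s.attach, ((AlgEquiv.ofInjective j hj).symm ⟨x.1.1,
    hjmem _ (Finset.mem_union_right _ (Finset.mem_image_of_mem _ x.2))⟩) ⊗ₜ[A₀] x.1.2), ?_⟩
  show φA.comp θ₀ _ = θ c
  rw [heq, ← e.symm_apply_apply c, hs, ← Finset.sum_attach s, map_sum, map_sum, map_sum]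
  refine Finset.sum_congr rfl fun x _ => ?_
  rw [show q (((AlgEquiv.ofInjective j hj).symm ⟨x.1.1, hjmem _ (Finset.mem_union_right _ (Finset.mem_image_of_mem _ x.2))⟩) ⊗ₜ[A₀] x.1.2) = _ from
    Algebra.TensorProduct.lift_tmul _ _ _ _ _]
  show algebraMap R₀[X] B _ * θ (ι₁ x.1.2) = θ (e.symm (x.1.1 ⊗ₜ x.1.2))
  rw [show (x.1.1 : R[X]) ⊗ₜ[A₀] x.1.2 = algebraMap R[X] (R[X] ⊗[A₀] S₀) x.1.1 * ((1 : R[X]) ⊗ₜ[A₀] x.1.2) by
    simp [Algebra.TensorProduct.algebraMap_apply], map_mul, map_mul, AlgEquiv.commutes, AlgHom.commutes]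
  congr 1
  show algebraMap R[X] B (j ((AlgEquiv.ofInjective j hj).symm _)) = _
  congr 1
  exact congrArg Subtype.val ((AlgEquiv.ofInjective j hj).apply_symm_apply _)

end

theorem mul_mem_ker_map {R : Type u} [CommRing R] {N : Ideal R} {i k : ℕ} {a b : PowerSeries R}
    (ha : ∀ l, PowerSeries.coeff l a ∈ N ^ i) (hb : ∀ l, PowerSeries.coeff l b ∈ N ^ k) (l : ℕ) :
    PowerSeries.coeff l (a * b) ∈ N ^ (i + k) := by
  rw [PowerSeries.coeff_mul, pow_add]
  exact sum_mem fun x _ => Ideal.mul_mem_mul (ha _) (hb _)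

/-- Idempotents of `R((t))` for Noetherian `R`. -/
theorem exists_idempotent_powerSeries {R : Type u} [CommRing R] [IsNoetherianRing R] {β : PowerSeries R} {n : ℕ}
    (h : β * β = PowerSeries.X ^ n * β) :
    ∃ r : R, IsIdempotentElem r ∧ β = PowerSeries.X ^ n * PowerSeries.C r := by
  have hp : ∀ p : Ideal R, p.IsPrime →
      (∀ i, i ≠ n → PowerSeries.coeff i β ∈ p) ∧
        PowerSeries.coeff n β * PowerSeries.coeff n β - PowerSeries.coeff n β ∈ p := by
    intro p hp
    have h1 := congrArg (PowerSeries.map (Ideal.Quotient.mk p)) h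
    rw [map_mul, map_mul, map_pow, PowerSeries.map_X] at h1
    rcases eq_or_ne (PowerSeries.map (Ideal.Quotient.mk p) β) 0 with h0 | h0
    · have h2 : ∀ i, PowerSeries.coeff i β ∈ p := fun i => Ideal.Quotient.eq_zero_iff_mem.1 (by
        rw [← PowerSeries.coeff_map, h0, map_zero])
      exact ⟨fun i _ => h2 i, sub_mem (p.mul_mem_right _ (h2 n)) (h2 n)⟩
    · have h2 := mul_right_cancel₀ h0 h1
      refine ⟨fun i hi => Ideal.Quotient.eq_zero_iff_mem.1 ?_, ?_⟩
      · rw [← PowerSeries.coeff_map, h2, PowerSeries.coeff_X_pow, if_neg hi]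
      · have h3 : Ideal.Quotient.mk p (PowerSeries.coeff n β) = 1 := by
          rw [← PowerSeries.coeff_map, h2, PowerSeries.coeff_X_pow, if_pos rfl]
        rw [← Ideal.Quotient.eq_zero_iff_mem, map_sub, map_mul, h3, mul_one, sub_self]
  have hnil : ∀ x : R, (∀ p : Ideal R, p.IsPrime → x ∈ p) → x ∈ nilradical R := fun x hx => by
    rw [nilradical_eq_sInf, Ideal.mem_sInf]; exact fun {p} hp => hx p hp
  obtain ⟨r, hr, hrn⟩ := exists_isIdempotentElem_eq_of_ker_isNilpotent (Ideal.Quotient.mk (nilradical R))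
    (fun x hx => by rwa [Ideal.mk_ker, mem_nilradical] at hx) (Ideal.Quotient.mk _ (PowerSeries.coeff n β)) ⟨_, rfl⟩
    (show _ * _ = _ by rw [← map_mul, Ideal.Quotient.mk_eq_mk_iff_sub_mem]; exact hnil _ fun p hp' => (hp p hp').2)
  refine ⟨r, hr, ?_⟩
  set γ := PowerSeries.X ^ n * PowerSeries.C r
  have hγ : γ * γ = PowerSeries.X ^ n * γ := by
    rw [show γ * γ = PowerSeries.X ^ n * (PowerSeries.X ^ n * PowerSeries.C (r * r)) by rw [map_mul]; ring, hr]
  have hd : (β - γ) * (β - γ) * (β - γ) = PowerSeries.X ^ (2 * n) * (β - γ) := by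
    linear_combination (β + PowerSeries.X ^ n - 3 * γ) * h + (3 * β - γ - PowerSeries.X ^ n) * hγ
  obtain ⟨k, hk⟩ := IsNoetherianRing.isNilpotent_nilradical R
  have hj : ∀ m, ∀ l, PowerSeries.coeff l (β - γ) ∈ nilradical R ^ (m + 1) := by
    intro m
    induction m with
    | zero =>
      intro l
      rw [pow_one, map_sub, PowerSeries.coeff_X_pow_mul', PowerSeries.coeff_C]
      rcases lt_trichotomy l n with hl | rfl | hl
      · rw [if_neg (by omega), sub_zero]; exact hnil _ fun p hp' => (hp p hp').1 l hl.ne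
      · rw [if_pos le_rfl, Nat.sub_self, if_pos rfl, ← Ideal.Quotient.mk_eq_mk_iff_sub_mem]; exact hrn.symm
      · rw [if_pos hl.le, if_neg (by omega), sub_zero]; exact hnil _ fun p hp' => (hp p hp').1 l hl.ne'
    | succ m ih =>
      intro l
      have h2 := mul_mem_ker_map (mul_mem_ker_map ih ih) ih (l + 2 * n)
      rw [hd, PowerSeries.coeff_X_pow_mul] at h2
      exact Ideal.pow_le_pow_right (by omega) h2
  rw [← sub_eq_zero]
  ext l
  rw [map_zero]
  have h1 := Ideal.pow_le_pow_right (Nat.le_succ k) (hj k l)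
  rwa [hk, Ideal.zero_eq_bot, Ideal.mem_bot] at h1

end Groth.Agent.CAlg.PairPowerSeries
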