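import Groth.Agent.Hens.PairHfp
import Groth.Agent.Hensel.QFinite

/-! The henselization `B` of `R[t]` along `(t)` and Weierstrass preparation over henselian local `R`. -/

namespace Groth.Agent.CAlg.PairWeierstrass

universe u

open Polynomial IsLocalRing

theorem isUnit_of_sub_one_mem {B : Type u} [CommRing B] {J : Ideal B} [HenselianRing B J] {x : B}
    (h : x - 1 ∈ J) : IsUnit x := by
  have := Ideal.mem_jacobson_bot.1 (HenselianRing.jac h) 1
  simpa using this

/-- Every element of a henselization of a pair comes from an étale stage with the same reduction. -/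
theorem exists_stage {A : Type u} [CommRing A] {I : Ideal A} {B : Type u} [CommRing B] [Algebra A B]
    (hB : Hens2.IsPairHenselization A I B) (z : B) :
    ∃ (S : Type u) (_ : CommRing S) (_ : Algebra A S), Algebra.Etale A S ∧
      Function.Bijective (Ideal.quotientMap (I.map (algebraMap A S)) (algebraMap A S) Ideal.le_comap_map) ∧
      ∃ (θ : S →ₐ[A] B) (s : S), θ s = z := by
  haveI := hB.1
  obtain ⟨E⟩ := Groth.Agent.Hens.nonempty_pairHenselization_algEquiv hB
  obtain ⟨S, _, _, hS, θ₀, s, hs⟩ := Groth.Agent.Hens.exists_pairStage (E.symm z)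
  let θ : S →ₐ[A] B := E.toAlgHom.comp θ₀
  let e := RingEquiv.ofBijective _ (Groth.Agent.Hens.bijective_quotientMap_of_isPairHenselization hB)
  let ρ : B →ₐ[A] A ⧸ I :=
    { toRingHom := e.symm.toRingHom.comp (Ideal.Quotient.mk _)
      commutes' := fun a => by
        show e.symm (Ideal.Quotient.mk _ (algebraMap A B a)) = Ideal.Quotient.mk I a
        rw [RingEquiv.symm_apply_eq]
        exact (Ideal.quotientMap_mk (H := Ideal.le_comap_map) (x := a)).symm }
  obtain ⟨t, ht, hbij⟩ := Groth.Agent.Hens.exists_away_bijective (ρ.comp θ)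
  have htu : IsUnit (θ t) := by
    refine isUnit_of_sub_one_mem (J := I.map (algebraMap A B)) ?_
    rw [← Ideal.Quotient.eq_zero_iff_mem, map_sub, map_one, sub_eq_zero]
    have h1 : e.symm (Ideal.Quotient.mk _ (θ t)) = 1 := ht
    rw [← e.apply_symm_apply (Ideal.Quotient.mk _ (θ t)), h1, map_one]
  haveI : Algebra.Etale S (Localization.Away t) := Algebra.Etale.of_isLocalizationAway t
  refine ⟨Localization.Away t, _, _, Algebra.Etale.comp A S _, hbij,
    IsLocalization.liftAlgHom (M := Submonoid.powers t) (f := θ) ?_, algebraMap S _ s, ?_⟩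
  · rintro ⟨_, n, rfl⟩
    show IsUnit (θ (t ^ n))
    rw [map_pow]; exact htu.pow n
  · rw [IsLocalization.liftAlgHom_apply, IsLocalization.lift_eq]
    show E (θ₀ s) = z
    rw [hs, AlgEquiv.apply_symm_apply]

variable {R : Type u} [CommRing R] {B : Type u} [CommRing B] [Algebra R B] [Algebra R[X] B]
  [IsScalarTower R R[X] B]

/-- `B` maps to `R[X]/(Xⁿ)` compatibly with `R[X]`. -/
theorem exists_truncation (hB : Hens2.IsPairHenselization R[X] (Ideal.span {(X : R[X])}) B) (n : ℕ) :
    ∃ g : B →+* R[X] ⧸ Ideal.span {(X : R[X]) ^ n}, ∀ q, g (algebraMap R[X] B q) = Ideal.Quotient.mk _ q := by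
  have hnil : ∀ x ∈ (Ideal.span {(X : R[X])}).map (Ideal.Quotient.mk (Ideal.span {(X : R[X]) ^ n})),
      IsNilpotent x := by
    rw [Ideal.map_span, Set.image_singleton]
    intro x hx
    obtain ⟨c, rfl⟩ := Ideal.mem_span_singleton.1 hx
    refine ⟨n, ?_⟩
    rw [mul_pow, ← map_pow, Ideal.Quotient.eq_zero_iff_mem.2 (Ideal.mem_span_singleton_self _), zero_mul]
  obtain ⟨g, hg, -⟩ := hB.2 _ _ (Ideal.Quotient.mk (Ideal.span {(X : R[X]) ^ n}))
    (Groth.Agent.Hensel.henselianRing_of_isNilpotent hnil) le_rfl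
  exact ⟨g, fun q => RingHom.congr_fun hg q⟩

theorem C_eq (r : R) : algebraMap R[X] B (C r) = algebraMap R B r :=
  (IsScalarTower.algebraMap_apply R R[X] B r).symm

variable (hB : Hens2.IsPairHenselization R[X] (Ideal.span {(X : R[X])}) B)

include hB

/-- The value at `t = 0`. -/
theorem exists_eval_zero :
    ∃ ε : B →+* R, (∀ q, ε (algebraMap R[X] B q) = q.coeff 0) ∧
      ∀ x, x - algebraMap R B (ε x) ∈ Ideal.span {algebraMap R[X] B X} := by
  obtain ⟨g, hg⟩ := exists_truncation hB 1
  let h0 : R[X] ⧸ Ideal.span {(X : R[X]) ^ 1} →+* R := Ideal.Quotient.lift _ (evalRingHom 0) fun a ha => by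
    obtain ⟨c, rfl⟩ := Ideal.mem_span_singleton.1 ha; simp
  refine ⟨h0.comp g, fun q => ?_, fun x => ?_⟩
  · show h0 (g _) = _
    rw [hg]
    show (evalRingHom 0) q = _
    simp [coeff_zero_eq_eval_zero]
  · obtain ⟨y, hy⟩ := (Groth.Agent.Hens.bijective_quotientMap_of_isPairHenselization hB).2 (Ideal.Quotient.mk _ x)
    obtain ⟨q, rfl⟩ := Ideal.Quotient.mk_surjective y
    rw [Ideal.quotientMap_mk, Ideal.Quotient.mk_eq_mk_iff_sub_mem, Ideal.map_span, Set.image_singleton] at hy
    obtain ⟨c, hc⟩ := Ideal.mem_span_singleton.1 hy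
    have hx : h0 (g x) = q.coeff 0 := by
      rw [show x = algebraMap R[X] B q - algebraMap R[X] B X * c by rw [← hc]; ring, map_sub, map_mul, hg, hg, map_sub, map_mul]
      show (evalRingHom 0) q - (evalRingHom 0) X * _ = _
      simp [coeff_zero_eq_eval_zero]
    show x - algebraMap R B (h0 (g x)) ∈ _
    rw [hx, Ideal.mem_span_singleton, ← C_eq (R := R) (B := B) (q.coeff 0)]
    refine ⟨algebraMap R[X] B (divX q) - c, ?_⟩
    rw [mul_sub, ← map_mul, ← hc]
    rw [show (X : R[X]) * divX q = q - C (q.coeff 0) from eq_sub_of_add_eq (X_mul_divX_add q), map_sub]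
    ring

theorem isUnit_iff {ε : B →+* R} (hε : ∀ x, x - algebraMap R B (ε x) ∈ Ideal.span {algebraMap R[X] B X}) (x : B) :
    IsUnit x ↔ IsUnit (ε x) := by
  refine ⟨fun h => h.map ε, fun h => ?_⟩
  haveI := hB.1
  have h1 : IsUnit (algebraMap R B (↑h.unit⁻¹ : R) * x) := by
    refine isUnit_of_sub_one_mem (J := (Ideal.span {(X : R[X])}).map (algebraMap R[X] B)) ?_
    rw [Ideal.map_span, Set.image_singleton]
    have := Ideal.mul_mem_left _ (algebraMap R B (↑h.unit⁻¹ : R)) (hε x)
    rwa [mul_sub, ← map_mul, h.val_inv_mul, map_one] at this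
  exact isUnit_of_mul_isUnit_right h1

theorem algebraMap_not_mem [IsLocalRing R] (n : ℕ) :
    algebraMap R[X] B (X ^ n) ∉ (maximalIdeal R).map (algebraMap R B) := by
  intro h
  obtain ⟨g, hg⟩ := exists_truncation hB (n + 1)
  let red : R[X] ⧸ Ideal.span {(X : R[X]) ^ (n + 1)} →+* (ResidueField R)[X] ⧸ Ideal.span {(X : (ResidueField R)[X]) ^ (n + 1)} :=
    Ideal.Quotient.lift _ ((Ideal.Quotient.mk _).comp (mapRingHom (residue R))) fun a ha => by
      obtain ⟨c, rfl⟩ := Ideal.mem_span_singleton.1 ha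
      rw [RingHom.comp_apply, Ideal.Quotient.eq_zero_iff_mem, map_mul, map_pow, coe_mapRingHom, map_X]
      exact Ideal.mul_mem_right _ _ (Ideal.mem_span_singleton_self _)
  have hle : (maximalIdeal R).map (algebraMap R B) ≤ RingHom.ker (red.comp g) := by
    rw [Ideal.map_le_iff_le_comap]
    intro r hr
    show red (g (algebraMap R B r)) = 0
    rw [← C_eq, hg]
    show (Ideal.Quotient.mk _).comp (mapRingHom (residue R)) (C r) = 0
    simp [(residue_eq_zero_iff r).2 hr]
  have h' : red (g (algebraMap R[X] B (X ^ n))) = 0 := hle h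
  rw [hg] at h'
  change (Ideal.Quotient.mk _).comp (mapRingHom (residue R)) (X ^ n) = 0 at h'
  rw [RingHom.comp_apply, map_pow, coe_mapRingHom, map_X, Ideal.Quotient.eq_zero_iff_mem,
    Ideal.mem_span_singleton, X_pow_dvd_iff] at h'
  simpa using h' n n.lt_succ_self

/-- Stage form of `f = t ^ n · unit` modulo the maximal ideal of `R`. -/
theorem exists_stage_order [IsLocalRing R] {f : B} (hf : f ∉ (maximalIdeal R).map (algebraMap R B)) :
    ∃ (S : Type u) (_ : CommRing S) (_ : Algebra R[X] S), Algebra.Etale R[X] S ∧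
      Function.Bijective (Ideal.quotientMap ((Ideal.span {(X : R[X])}).map (algebraMap R[X] S))
        (algebraMap R[X] S) Ideal.le_comap_map) ∧
      ∃ (θ : S →ₐ[R[X]] B) (s y : S) (n : ℕ), θ s = f ∧ IsUnit (θ y) ∧
        s - algebraMap R[X] S (X ^ n) * y ∈ (maximalIdeal R).map ((algebraMap R[X] S).comp C) := by
  obtain ⟨ε, hε0, hε⟩ := exists_eval_zero hB
  obtain ⟨S, _, _, hS, hbij, θ, s, hs⟩ := exists_stage hB f
  refine ⟨S, _, _, hS, hbij, θ, s, ?_⟩
  set mS := (maximalIdeal R).map ((algebraMap R[X] S).comp C)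
  have hmθ : mS.map θ.toRingHom ≤ (maximalIdeal R).map (algebraMap R B) := by
    rw [Ideal.map_map]
    refine le_of_eq (congrArg (fun φ => Ideal.map φ (maximalIdeal R)) (RingHom.ext fun r => ?_))
    show θ (algebraMap R[X] S (C r)) = _
    rw [AlgHom.commutes, C_eq]
  let Sb := S ⧸ mS
  letI : Algebra R S := ((algebraMap R[X] S).comp C).toAlgebra
  haveI : IsScalarTower R R[X] S := IsScalarTower.of_algebraMap_eq' rfl
  haveI : Algebra.FiniteType R S := Algebra.FiniteType.trans (inferInstance : Algebra.FiniteType R R[X]) inferInstance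
  haveI : IsNoetherianRing Sb := by
    letI : Algebra (R ⧸ maximalIdeal R) Sb := (Ideal.quotientMap mS (algebraMap R S) Ideal.le_comap_map).toAlgebra
    haveI : IsScalarTower R (R ⧸ maximalIdeal R) Sb := .of_algebraMap_eq' rfl
    haveI : Algebra.FiniteType (R ⧸ maximalIdeal R) Sb := Algebra.FiniteType.of_restrictScalars_finiteType R _ _
    letI : Field (R ⧸ maximalIdeal R) := Ideal.Quotient.field _
    exact Algebra.FiniteType.isNoetherianRing (R ⧸ maximalIdeal R) _
  let τ : Sb := Ideal.Quotient.mk _ (algebraMap R[X] S X)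
  have key : ∀ x : S, IsUnit (θ x) ∨ Ideal.Quotient.mk mS x ∈ Ideal.span {τ} := by
    intro x
    refine or_iff_not_imp_left.2 fun hx => ?_
    obtain ⟨y, hy⟩ := hbij.2 (Ideal.Quotient.mk _ x)
    obtain ⟨q, rfl⟩ := Ideal.Quotient.mk_surjective y
    rw [Ideal.quotientMap_mk, Ideal.Quotient.mk_eq_mk_iff_sub_mem, Ideal.map_span, Set.image_singleton] at hy
    obtain ⟨c, hc⟩ := Ideal.mem_span_singleton.1 hy
    have hq0 : q.coeff 0 ∈ maximalIdeal R := by
      have h1 : ε (θ x) = q.coeff 0 := by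
        rw [show x = algebraMap R[X] S q - algebraMap R[X] S X * c by rw [← hc]; ring, map_sub, map_mul,
          AlgHom.commutes, AlgHom.commutes, map_sub, map_mul, hε0, hε0, coeff_X_zero, zero_mul, sub_zero]
      rw [← h1]
      exact fun hu => hx ((isUnit_iff hB hε _).2 hu)
    rw [Ideal.mem_span_singleton]
    refine ⟨Ideal.Quotient.mk mS (algebraMap R[X] S (divX q) - c), ?_⟩
    rw [show x = algebraMap R[X] S (X * divX q + C (q.coeff 0)) - algebraMap R[X] S X * c by
      rw [X_mul_divX_add, ← hc]; ring, map_add, map_mul, map_sub, map_add, map_mul, map_mul,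
      show Ideal.Quotient.mk mS (algebraMap R[X] S (C (q.coeff 0))) = 0 from Ideal.Quotient.eq_zero_iff_mem.2 (Ideal.mem_map_of_mem ((algebraMap R[X] S).comp C) hq0), map_sub]
    ring
  have hfin : ∃ n, Ideal.Quotient.mk mS s ∉ Ideal.span {τ} ^ n := by
    by_contra h
    push Not at h
    obtain ⟨r, hr⟩ := (Ideal.mem_iInf_smul_pow_eq_bot_iff (I := Ideal.span {τ}) (Ideal.Quotient.mk mS s : Sb)).1 (by
      rw [Submodule.mem_iInf]; intro i; rw [smul_eq_mul, Ideal.mul_top]; exact h i)
    obtain ⟨r, hrτ⟩ := r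
    obtain ⟨r, rfl⟩ := Ideal.Quotient.mk_surjective r
    rw [smul_eq_mul, ← map_mul, Ideal.Quotient.mk_eq_mk_iff_sub_mem] at hr
    have hu : IsUnit (θ (r - 1)) := by
      rcases key (r - 1) with h1 | h1
      · exact h1
      · exfalso
        have h2 := sub_mem hrτ h1
        rw [map_sub, map_one, sub_sub_cancel, Ideal.mem_span_singleton] at h2
        obtain ⟨d, hd⟩ := h2
        obtain ⟨d, rfl⟩ := Ideal.Quotient.mk_surjective d
        rw [← map_mul, ← map_one (Ideal.Quotient.mk mS), Ideal.Quotient.mk_eq_mk_iff_sub_mem] at hd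
        have h3 := hmθ (Ideal.mem_map_of_mem θ.toRingHom hd)
        simp only [AlgHom.toRingHom_eq_coe, RingHom.coe_coe, map_sub, map_one, map_mul, AlgHom.commutes] at h3
        have h4 : (maximalIdeal R).map (algebraMap R B) ≤ (maximalIdeal R).comap ε := by
          rw [Ideal.map_le_iff_le_comap]
          intro a ha
          show ε (algebraMap R B a) ∈ maximalIdeal R
          rw [← C_eq, hε0, coeff_C_zero]; exact ha
        have h5 : ε _ ∈ maximalIdeal R := h4 h3
        rw [map_sub, map_one, map_mul, hε0, coeff_X_zero, zero_mul, sub_zero] at h5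
        exact (IsLocalRing.maximalIdeal.isMaximal R).ne_top ((Ideal.eq_top_iff_one _).2 h5)
    have h3 := hmθ (Ideal.mem_map_of_mem θ.toRingHom hr)
    simp only [AlgHom.toRingHom_eq_coe, RingHom.coe_coe, map_sub, map_mul] at h3
    rw [show θ r * θ s - θ s = θ (r - 1) * θ s by rw [map_sub, map_one]; ring, hs] at h3
    exact hf ((Ideal.unit_mul_mem_iff_mem _ hu).1 h3)
  classical
  obtain ⟨n, hn⟩ : ∃ n, Nat.find hfin = n + 1 := by
    refine ⟨Nat.find hfin - 1, ?_⟩
    have : Nat.find hfin ≠ 0 := fun h => Nat.find_spec hfin (by rw [h, pow_zero, Ideal.one_eq_top]; exact Submodule.mem_top)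
    omega
  have h1 : Ideal.Quotient.mk mS s ∈ Ideal.span {τ} ^ n := not_not.1 (Nat.find_min hfin (by omega))
  have h2 : Ideal.Quotient.mk mS s ∉ Ideal.span {τ} ^ (n + 1) := hn ▸ Nat.find_spec hfin
  rw [Ideal.span_singleton_pow, Ideal.mem_span_singleton] at h1 h2
  obtain ⟨y, hy⟩ := h1
  obtain ⟨y, rfl⟩ := Ideal.Quotient.mk_surjective y
  refine ⟨y, n, hs, ?_, ?_⟩
  · rcases key y with h | h
    · exact h
    · exact absurd (by rw [hy, pow_succ]; exact mul_dvd_mul_left _ (Ideal.mem_span_singleton.1 h)) h2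
  · rwa [← map_pow, ← map_mul, ← map_pow, Ideal.Quotient.mk_eq_mk_iff_sub_mem] at hy

/-- Weierstrass preparation, existence. -/
theorem exists_weierstrass [HenselianLocalRing R] {f : B} (hf : f ∉ (maximalIdeal R).map (algebraMap R B)) :
    ∃ (P : R[X]) (u : Bˣ), P.Monic ∧ (∀ i < P.natDegree, P.coeff i ∈ maximalIdeal R) ∧
      f = algebraMap R[X] B P * (u : B) := by
  classical
  obtain ⟨ε, hε0, hε⟩ := exists_eval_zero hB
  obtain ⟨S, _, _, hS, hbij, θ, s, y, n, hs, hyu, hmem⟩ := exists_stage_order hB hf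
  rcases Nat.eq_zero_or_pos n with rfl | hn
  · have hu : IsUnit f := by
      rw [isUnit_iff hB hε]
      have h1 : θ (s - y) ∈ (maximalIdeal R).map (algebraMap R B) := by
        have h2 := Ideal.mem_map_of_mem θ.toRingHom hmem
        rw [Ideal.map_map, show θ.toRingHom.comp ((algebraMap R[X] S).comp C) = algebraMap R B from
          RingHom.ext fun r => by simp [← C_eq (B := B)]] at h2
        simpa using h2
      have h4 : (maximalIdeal R).map (algebraMap R B) ≤ (maximalIdeal R).comap ε := by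
        rw [Ideal.map_le_iff_le_comap]
        intro a ha
        show ε (algebraMap R B a) ∈ maximalIdeal R
        rw [← C_eq, hε0, coeff_C_zero]; exact ha
      have h5 : ε (θ (s - y)) ∈ maximalIdeal R := h4 h1
      rw [map_sub, map_sub, hs] at h5
      by_contra hfu
      have h6 : ε (θ y) ∈ maximalIdeal R := by
        have := sub_mem (show ε f ∈ maximalIdeal R from hfu) h5
        rwa [sub_sub_cancel] at this
      exact h6 (hyu.map ε)
    exact ⟨1, hu.unit, monic_one, fun i hi => by simp at hi, by simp⟩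
  letI : Algebra R S := ((algebraMap R[X] S).comp C).toAlgebra
  haveI : IsScalarTower R R[X] S := IsScalarTower.of_algebraMap_eq' rfl
  haveI : Algebra.FiniteType R S := Algebra.FiniteType.trans (inferInstance : Algebra.FiniteType R R[X]) inferInstance
  set θR : S →ₐ[R] B := θ.restrictScalars R
  let D := S ⧸ Ideal.span {s}
  let E := Localization.Away (Ideal.Quotient.mk (Ideal.span {s}) y)
  haveI : Algebra.FiniteType D E := IsLocalization.finiteType_of_monoid_fg (Submonoid.powers (Ideal.Quotient.mk (Ideal.span {s}) y)) E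
  haveI : Algebra.FiniteType R E := Algebra.FiniteType.trans (inferInstance : Algebra.FiniteType R D) inferInstance
  let ι : S →ₐ[R] E := (IsScalarTower.toAlgHom R D E).comp (Ideal.Quotient.mkₐ R _)
  have hιy : IsUnit (ι y) := IsLocalization.Away.algebraMap_isUnit (Ideal.Quotient.mk (Ideal.span {s}) y)
  let mE := (maximalIdeal R).map (algebraMap R E)
  let Q := E ⧸ mE
  let Φ : R[X] →ₐ[R] Q := (Ideal.Quotient.mkₐ R mE).comp (ι.comp (IsScalarTower.toAlgHom R R[X] S))
  let j : S →ₐ[R] Q := (Ideal.Quotient.mkₐ R mE).comp ι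
  have hjm : ∀ x ∈ (maximalIdeal R).map (algebraMap R S), j x = 0 := by
    intro x hx
    refine Ideal.Quotient.eq_zero_iff_mem.2 ?_
    have := Ideal.mem_map_of_mem ι.toRingHom hx
    rwa [Ideal.map_map, show ι.toRingHom.comp (algebraMap R S) = algebraMap R E from ι.comp_algebraMap] at this
  have hXn : Φ (X ^ n) = 0 := by
    have h1 : j s = 0 := by
      show Ideal.Quotient.mk mE (algebraMap D E (Ideal.Quotient.mk _ s)) = 0
      rw [Ideal.Quotient.eq_zero_iff_mem.2 (Ideal.mem_span_singleton_self s), map_zero, map_zero]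
    have h2 := hjm _ hmem
    rw [map_sub, h1, map_mul, zero_sub, neg_eq_zero] at h2
    exact (hιy.map (Ideal.Quotient.mkₐ R mE)).mul_left_eq_zero.1 h2
  have hSj : ∀ x : S, ∃ q : R[X], j x = Φ q := by
    have h : ∀ k : ℕ, ∀ x : S, ∃ (q : R[X]) (z : S), x = algebraMap R[X] S q + algebraMap R[X] S X ^ k * z := by
      intro k
      induction k with
      | zero => exact fun x => ⟨0, x, by simp⟩
      | succ k ih =>
        intro x
        obtain ⟨q, z, rfl⟩ := ih x
        obtain ⟨w, hw⟩ := hbij.2 (Ideal.Quotient.mk _ z)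
        obtain ⟨r, rfl⟩ := Ideal.Quotient.mk_surjective w
        rw [Ideal.quotientMap_mk, Ideal.Quotient.mk_eq_mk_iff_sub_mem, Ideal.map_span, Set.image_singleton] at hw
        obtain ⟨c, hc⟩ := Ideal.mem_span_singleton.1 hw
        refine ⟨q + X ^ k * r, -c, ?_⟩
        rw [show z = algebraMap R[X] S r - algebraMap R[X] S X * c by rw [← hc]; ring, map_add, map_mul, map_pow]
        ring
    intro x
    obtain ⟨q, z, rfl⟩ := h n x
    refine ⟨q, ?_⟩
    rw [map_add, map_mul, map_pow, show j (algebraMap R[X] S X) = Φ X from rfl, ← map_pow, hXn, zero_mul, add_zero]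
    rfl
  have hlt : ∀ p : R[X], ∃ q ∈ degreeLT R n, Φ q = Φ p := fun p => by
    refine ⟨p %ₘ X ^ n, ?_, ?_⟩
    · rw [mem_degreeLT]
      exact lt_of_lt_of_le (degree_modByMonic_lt p (monic_X_pow n)) (by rw [degree_X_pow])
    · conv_rhs => rw [← modByMonic_add_div p (X ^ n)]
      rw [map_add, map_mul, hXn, zero_mul, add_zero]
  have hmΦ : ∀ r ∈ maximalIdeal R, Φ (C r) = 0 := fun r hr => by
    rw [← Polynomial.algebraMap_eq, AlgHom.commutes]
    exact Ideal.Quotient.eq_zero_iff_mem.2 (Ideal.mem_map_of_mem _ hr)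
  have hsurjQ : Function.Surjective Φ := by
    obtain ⟨q, hq⟩ := hSj y
    have hju : IsUnit (j y) := hιy.map (Ideal.Quotient.mkₐ R mE)
    by_cases hq0 : IsUnit (q.coeff 0)
    · obtain ⟨r, hr⟩ : ∃ r, Φ q * Φ r = 1 := by
        have h1 : IsNilpotent (Ideal.Quotient.mk (Ideal.span {(X : R[X]) ^ n}) (X * divX q)) :=
          ⟨n, by rw [← map_pow, mul_pow, Ideal.Quotient.eq_zero_iff_mem]; exact Ideal.mul_mem_right _ _ (Ideal.mem_span_singleton_self _)⟩
        have h2 := h1.isUnit_add_left_of_commute ((hq0.map C).map (Ideal.Quotient.mk (Ideal.span {(X : R[X]) ^ n}))) (Commute.all _ _)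
        rw [← map_add, add_comm, X_mul_divX_add] at h2
        obtain ⟨r, hr⟩ := Ideal.Quotient.mk_surjective (↑h2.unit⁻¹ : R[X] ⧸ Ideal.span {(X : R[X]) ^ n})
        have h3 := h2.mul_val_inv
        rw [← hr, ← map_mul, ← map_one (Ideal.Quotient.mk _), Ideal.Quotient.mk_eq_mk_iff_sub_mem, Ideal.mem_span_singleton] at h3
        obtain ⟨c, hc⟩ := h3
        refine ⟨r, ?_⟩
        rw [← map_mul, show q * r = 1 + X ^ n * c by rw [← hc]; ring, map_add, map_mul, hXn, zero_mul, add_zero, map_one]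
      intro z
      obtain ⟨e, rfl⟩ := Ideal.Quotient.mkₐ_surjective R mE z
      obtain ⟨x, ⟨_, k, rfl⟩, rfl⟩ := IsLocalization.exists_mk'_eq (Submonoid.powers (Ideal.Quotient.mk (Ideal.span {s}) y)) e
      obtain ⟨x, rfl⟩ := Ideal.Quotient.mk_surjective x
      obtain ⟨q', hq'⟩ := hSj x
      refine ⟨q' * r ^ k, ?_⟩
      have hspec := congrArg (Ideal.Quotient.mkₐ R mE) (IsLocalization.mk'_spec E (Ideal.Quotient.mk (Ideal.span {s}) x)
        (⟨_, k, rfl⟩ : Submonoid.powers (Ideal.Quotient.mk (Ideal.span {s}) y)))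
      rw [map_mul] at hspec
      simp only [map_pow] at hspec
      rw [show Ideal.Quotient.mkₐ R mE (algebraMap D E (Ideal.Quotient.mk (Ideal.span {s}) y)) = Φ q from hq,
        show Ideal.Quotient.mkₐ R mE (algebraMap D E (Ideal.Quotient.mk (Ideal.span {s}) x)) = Φ q' from hq'] at hspec
      rw [map_mul, ← hspec, map_pow, mul_assoc, ← mul_pow, hr, one_pow, mul_one]
    · have h0 : j y ^ n = 0 := by
        rw [hq, ← X_mul_divX_add q, map_add, hmΦ _ hq0, add_zero, map_mul, mul_pow, ← map_pow, hXn, zero_mul]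
      haveI : Subsingleton Q := subsingleton_of_zero_eq_one (isUnit_zero_iff.1 (h0 ▸ hju.pow n))
      exact fun z => ⟨0, Subsingleton.elim _ _⟩
  haveI : Module.Finite R Q := by
    haveI : Module.Finite R (degreeLT R n) := Module.Finite.equiv (degreeLTEquiv R n).symm
    refine Module.Finite.of_surjective (Φ.toLinearMap.comp (degreeLT R n).subtype) fun z => ?_
    obtain ⟨p, rfl⟩ := hsurjQ z
    obtain ⟨q, hq, hq'⟩ := hlt p
    exact ⟨⟨q, hq⟩, hq'⟩
  -- the point of `E` in the residue field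
  have hmapε : (maximalIdeal R).map (algebraMap R B) ≤ (maximalIdeal R).comap ε := by
    rw [Ideal.map_le_iff_le_comap]
    intro a ha
    show ε (algebraMap R B a) ∈ maximalIdeal R
    rw [← C_eq, hε0, coeff_C_zero]; exact ha
  have hmθ : f - algebraMap R[X] B (X ^ n) * θ y ∈ (maximalIdeal R).map (algebraMap R B) := by
    have h2 := Ideal.mem_map_of_mem θ.toRingHom hmem
    rw [Ideal.map_map, show θ.toRingHom.comp ((algebraMap R[X] S).comp C) = algebraMap R B from
      RingHom.ext fun r => by simp [← C_eq (B := B)]] at h2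
    simpa [hs] using h2
  have hfε : ε f ∈ maximalIdeal R := by
    have h := hmapε hmθ
    rw [Ideal.mem_comap, map_sub, map_mul, hε0, coeff_X_pow, if_neg hn.ne, zero_mul, sub_zero] at h
    exact h
  let φD : D →ₐ[R] B ⧸ Ideal.span {f} := Ideal.Quotient.liftₐ _ ((Ideal.Quotient.mkₐ R _).comp θR) fun a ha => by
    obtain ⟨c, rfl⟩ := Ideal.mem_span_singleton.1 ha
    refine Ideal.Quotient.eq_zero_iff_mem.2 ?_
    show θ (s * c) ∈ _
    rw [map_mul, hs]
    exact Ideal.mul_mem_right _ _ (Ideal.mem_span_singleton_self _)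
  let φE : E →ₐ[R] B ⧸ Ideal.span {f} :=
    IsLocalization.liftAlgHom (M := Submonoid.powers (Ideal.Quotient.mk (Ideal.span {s}) y)) (f := φD) <| by
      rintro ⟨_, k, rfl⟩
      show IsUnit (φD (Ideal.Quotient.mk (Ideal.span {s}) y ^ k))
      rw [map_pow]
      exact (hyu.map (Ideal.Quotient.mk (Ideal.span {f}))).pow k
  have hφι : ∀ x, φE (ι x) = Ideal.Quotient.mk _ (θ x) := fun x => by
    show φE (algebraMap D E (Ideal.Quotient.mk _ x)) = _
    rw [IsLocalization.liftAlgHom_apply, IsLocalization.lift_eq]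
    rfl
  let κ : B ⧸ Ideal.span {f} →+* ResidueField R := Ideal.Quotient.lift _ ((residue R).comp ε) fun a ha => by
    obtain ⟨c, rfl⟩ := Ideal.mem_span_singleton.1 ha
    rw [RingHom.comp_apply, map_mul, map_mul, (residue_eq_zero_iff _).2 hfε, zero_mul]
  let χ : E →+* ResidueField R := κ.comp φE.toRingHom
  have hχ : ∀ r, χ (algebraMap R E r) = residue R r := fun r => by
    show κ (φE (algebraMap R E r)) = _
    rw [AlgHom.commutes]
    show residue R (ε (algebraMap R B r)) = _
    rw [← C_eq, hε0, coeff_C_zero]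
  let qE : Ideal E := RingHom.ker χ
  haveI : qE.IsPrime := RingHom.ker_isPrime χ
  haveI : qE.LiesOver (maximalIdeal R) := ⟨by
    ext c
    show c ∈ maximalIdeal R ↔ χ (algebraMap R E c) = 0
    rw [hχ, residue_eq_zero_iff]⟩
  haveI : Algebra.QuasiFiniteAt R qE := Groth.Agent.Hens.quasiFiniteAt_of_finite_quotient qE
    (Ideal.map_le_iff_le_comap.2 (qE.over_def (maximalIdeal R)).le)
  obtain ⟨e, hee, heq, hTfin, -⟩ := Groth.Agent.Hensel.exists_idempotent_of_quasiFiniteAt (R := R) qE
  have hφe : φE e = 1 := by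
    obtain ⟨x, hx⟩ := Ideal.Quotient.mk_surjective (φE e)
    have hxu : IsUnit x := by
      rw [isUnit_iff hB hε, ← residue_ne_zero_iff_isUnit]
      intro h
      refine heq ?_
      show κ (φE e) = 0
      rw [← hx]; exact h
    exact ((hx ▸ hxu.map (Ideal.Quotient.mk (Ideal.span {f}))).mul_left_inj).1 (by rw [one_mul]; exact hee.map φE)
  let T := E ⧸ Ideal.span {1 - e}
  let φT : T →ₐ[R] B ⧸ Ideal.span {f} := Ideal.Quotient.liftₐ _ φE fun a ha => by
    obtain ⟨c, rfl⟩ := Ideal.mem_span_singleton.1 ha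
    rw [map_mul, map_sub, map_one, hφe, sub_self, zero_mul]
  let ΦT : R[X] →ₐ[R] T := (Ideal.Quotient.mkₐ R _).comp (ι.comp (IsScalarTower.toAlgHom R R[X] S))
  have hgen : (degreeLT R n).map ΦT.toLinearMap = ⊤ := by
    refine top_le_iff.1 (Submodule.le_of_le_smul_of_le_jacobson_bot Module.Finite.fg_top
      (maximalIdeal_le_jacobson (⊥ : Ideal R)) fun z _ => ?_)
    obtain ⟨e', rfl⟩ := Ideal.Quotient.mkₐ_surjective R _ z
    obtain ⟨p, hp⟩ := hsurjQ (Ideal.Quotient.mkₐ R mE e')
    obtain ⟨q, hq, hq'⟩ := hlt p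
    rw [← hq'] at hp
    refine Submodule.mem_sup.2 ⟨ΦT q, Submodule.mem_map_of_mem hq, _, ?_, add_sub_cancel _ _⟩
    rw [Ideal.smul_top_eq_map, Submodule.restrictScalars_mem]
    have h1 : e' - ι (algebraMap R[X] S q) ∈ mE := Ideal.Quotient.eq.1 hp.symm
    have h2 := Ideal.mem_map_of_mem (Ideal.Quotient.mk (Ideal.span {1 - e})) h1
    rw [Ideal.map_map] at h2
    rw [map_sub] at h2
    exact h2
  obtain ⟨c, hc, hc'⟩ : ΦT (X ^ n) ∈ (degreeLT R n).map ΦT.toLinearMap := hgen ▸ Submodule.mem_top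
  have hcn : c.degree < n := mem_degreeLT.1 hc
  set P : R[X] := X ^ n - c
  have hPm : P.Monic := monic_X_pow_sub hcn
  have hPd : P.natDegree = n := by
    refine natDegree_eq_of_degree_eq_some ?_
    rw [degree_sub_eq_left_of_degree_lt (by rw [degree_X_pow]; exact hcn), degree_X_pow]
  have hPT : ΦT P = 0 := by rw [map_sub, sub_eq_zero]; exact hc'.symm
  obtain ⟨w, hw⟩ : ∃ w, algebraMap R[X] B P = f * w := by
    rw [← θ.commutes P]
    refine Ideal.mem_span_singleton.1 (Ideal.Quotient.eq_zero_iff_mem.1 ?_)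
    rw [← hφι, show φE (ι (algebraMap R[X] S P)) = φT (ΦT P) from rfl, hPT, map_zero]
  have hPc : ∀ i < n, P.coeff i ∈ maximalIdeal R := by
    obtain ⟨g, hg⟩ := exists_truncation hB n
    let red : R[X] ⧸ Ideal.span {(X : R[X]) ^ n} →+* (ResidueField R)[X] ⧸ Ideal.span {(X : (ResidueField R)[X]) ^ n} :=
      Ideal.Quotient.lift _ ((Ideal.Quotient.mk _).comp (mapRingHom (residue R))) fun a ha => by
        obtain ⟨d, rfl⟩ := Ideal.mem_span_singleton.1 ha
        rw [RingHom.comp_apply, Ideal.Quotient.eq_zero_iff_mem, map_mul, map_pow, coe_mapRingHom, map_X]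
        exact Ideal.mul_mem_right _ _ (Ideal.mem_span_singleton_self _)
    have hle : (maximalIdeal R).map (algebraMap R B) ≤ RingHom.ker (red.comp g) := by
      rw [Ideal.map_le_iff_le_comap]
      intro r hr
      show red (g (algebraMap R B r)) = 0
      rw [← C_eq, hg]
      show (Ideal.Quotient.mk _).comp (mapRingHom (residue R)) (C r) = 0
      simp [(residue_eq_zero_iff r).2 hr]
    have h1 : red (g (f - algebraMap R[X] B (X ^ n) * θ y)) = 0 := hle hmθ
    have hX : red (g (algebraMap R[X] B (X ^ n))) = 0 := by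
      rw [hg, Ideal.Quotient.eq_zero_iff_mem.2 (Ideal.mem_span_singleton_self _), map_zero]
    rw [map_sub, map_mul, map_sub, map_mul, hX, zero_mul, sub_zero] at h1
    have h2 : red (g (algebraMap R[X] B P)) = 0 := by rw [hw, map_mul, map_mul, h1, zero_mul]
    rw [hg] at h2
    change (Ideal.Quotient.mk _).comp (mapRingHom (residue R)) P = 0 at h2
    rw [RingHom.comp_apply, Ideal.Quotient.eq_zero_iff_mem, Ideal.mem_span_singleton, X_pow_dvd_iff] at h2
    intro i hi
    have := h2 i hi
    rwa [coe_mapRingHom, coeff_map, residue_eq_zero_iff] at this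
  have hwu : IsUnit w := by
    rw [isUnit_iff hB hε]
    by_contra hwε
    have hPX : algebraMap R[X] B P - algebraMap R[X] B (X ^ n) ∈ (maximalIdeal R).map (algebraMap R B) := by
      rw [← map_sub]
      have h1 : P - X ^ n ∈ (maximalIdeal R).map C := Ideal.mem_map_C_iff.2 fun i => by
        rcases lt_trichotomy i n with h | rfl | h
        · rw [coeff_sub, coeff_X_pow, if_neg h.ne, sub_zero]; exact hPc i h
        · rw [coeff_sub, coeff_X_pow, if_pos rfl, ← hPd, hPm.coeff_natDegree, sub_self]; exact zero_mem _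
        · rw [coeff_sub, coeff_X_pow, if_neg h.ne', coeff_eq_zero_of_natDegree_lt (hPd ▸ h), sub_zero]; exact zero_mem _
      have h2 := Ideal.mem_map_of_mem (algebraMap R[X] B) h1
      rwa [Ideal.map_map, show (algebraMap R[X] B).comp C = algebraMap R B from RingHom.ext C_eq] at h2
    have h3 : algebraMap R[X] B (X ^ n) * (1 - θ y * w) ∈ (maximalIdeal R).map (algebraMap R B) := by
      have h4 := sub_mem (Ideal.mul_mem_right w _ hmθ) hPX
      rw [hw] at h4
      rw [show algebraMap R[X] B (X ^ n) * (1 - θ y * w) = (f - algebraMap R[X] B (X ^ n) * θ y) * w - (f * w - algebraMap R[X] B (X ^ n)) by ring]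
      exact h4
    have h5 : IsUnit (1 - θ y * w) := by
      rw [isUnit_iff hB hε, map_sub, map_one, map_mul, ← residue_ne_zero_iff_isUnit, map_sub, map_one, map_mul,
        (residue_eq_zero_iff (ε w)).2 hwε, mul_zero, sub_zero]
      exact one_ne_zero
    exact algebraMap_not_mem hB n ((Ideal.mul_unit_mem_iff_mem _ h5).1 h3)
  refine ⟨P, hwu.unit⁻¹, hPm, hPd.symm ▸ hPc, ?_⟩
  rw [hw, mul_assoc, hwu.mul_val_inv, mul_one]

/-- `R[X]/(P) → B/(P)` is bijective. -/
theorem bijective_mod [HenselianLocalRing R] {P : R[X]} (hP : P.Monic)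
    (hc : ∀ i < P.natDegree, P.coeff i ∈ maximalIdeal R) :
    (∀ b : B, ∃ q : R[X], algebraMap R[X] B q - b ∈ Ideal.span {algebraMap R[X] B P}) ∧
      (∀ q : R[X], algebraMap R[X] B q ∈ Ideal.span {algebraMap R[X] B P} → q ∈ Ideal.span {P}) := by
  haveI := hB.1
  haveI : Module.Finite R (AdjoinRoot P) := (AdjoinRoot.powerBasis' hP).finite
  haveI : HenselianRing R (maximalIdeal R) := inferInstance
  haveI : HenselianRing (AdjoinRoot P) ((maximalIdeal R).map (algebraMap R (AdjoinRoot P))) :=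
    Groth.Agent.Hensel.henselianRing_of_isIntegral _
  let J : Ideal (AdjoinRoot P) := (Ideal.span {(X : R[X])}).map (AdjoinRoot.mk P)
  haveI : HenselianRing (AdjoinRoot P) J := by
    refine Groth.Agent.Hensel.henselianRing_of_radical_eq (I := (maximalIdeal R).map (algebraMap R (AdjoinRoot P))) ?_
    rw [show J = Ideal.span {AdjoinRoot.root P} by rw [← AdjoinRoot.mk_X]; simp [J, Ideal.map_span],
      Ideal.span_singleton_le_iff_mem]
    refine ⟨P.natDegree, ?_⟩
    have h0 : aeval (AdjoinRoot.root P) P = 0 := by rw [AdjoinRoot.aeval_eq, AdjoinRoot.mk_self]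
    rw [aeval_eq_sum_range, Finset.sum_range_succ, hP.coeff_natDegree, one_smul] at h0
    rw [eq_neg_of_add_eq_zero_right h0]
    exact neg_mem (sum_mem fun i hi => by
      rw [Algebra.smul_def]; exact Ideal.mul_mem_right _ _ (Ideal.mem_map_of_mem _ (hc i (Finset.mem_range.1 hi))))
  obtain ⟨g, hg, -⟩ := hB.2 (AdjoinRoot P) J (AdjoinRoot.mk P) inferInstance le_rfl
  refine ⟨fun b => ?_, fun q hq => ?_⟩
  · set K := Ideal.span {algebraMap R[X] B P}
    obtain ⟨q, hq⟩ := AdjoinRoot.mk_surjective (g b)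
    refine ⟨q, ?_⟩
    let back : AdjoinRoot P →+* B ⧸ K := Ideal.Quotient.lift _ ((Ideal.Quotient.mk K).comp (algebraMap R[X] B)) fun a ha => by
      obtain ⟨d, rfl⟩ := Ideal.mem_span_singleton.1 ha
      rw [RingHom.comp_apply, Ideal.Quotient.eq_zero_iff_mem, map_mul]
      exact Ideal.mul_mem_right _ _ (Ideal.mem_span_singleton_self _)
    haveI : HenselianRing (B ⧸ K) (((Ideal.span {(X : R[X])}).map (algebraMap R[X] B)).map (Ideal.Quotient.mk K)) :=
      Groth.Agent.Hensel.henselianRing_quotient K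
    obtain ⟨g', -, huniq⟩ := hB.2 (B ⧸ K) _ ((Ideal.Quotient.mk K).comp (algebraMap R[X] B))
      ‹_› (by rw [Ideal.map_map])
    have h1 : back.comp g = Ideal.Quotient.mk K := (huniq _
      (show (back.comp g).comp (algebraMap R[X] B) = (Ideal.Quotient.mk K).comp (algebraMap R[X] B) by
        rw [RingHom.comp_assoc, hg]; rfl)).trans (huniq _ rfl).symm
    rw [← Ideal.Quotient.mk_eq_mk_iff_sub_mem]
    rw [← RingHom.congr_fun h1 b, RingHom.comp_apply, ← hq]
    rfl
  · obtain ⟨c, hc'⟩ := Ideal.mem_span_singleton.1 hq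
    have h1 := congrArg g hc'
    rw [map_mul, show g (algebraMap R[X] B q) = AdjoinRoot.mk P q from RingHom.congr_fun hg q,
      show g (algebraMap R[X] B P) = AdjoinRoot.mk P P from RingHom.congr_fun hg P, AdjoinRoot.mk_self, zero_mul] at h1
    exact Ideal.mem_span_singleton.2 (AdjoinRoot.mk_eq_zero.1 h1)

end Groth.Agent.CAlg.PairWeierstrass
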