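import Mathlib

/-! Direct summands and reduction modulo an ideal. -/

namespace Groth.Agent.CAlg.SummandLift

open TensorProduct

universe u v

variable {R : Type u} [CommRing R] (𝔫 : Ideal R) {M N : Type v} [AddCommGroup M] [Module R M]
  [AddCommGroup N] [Module R N]

/-- `x ↦ 1 ⊗ x`. -/
noncomputable def red : M →ₗ[R] (R ⧸ 𝔫) ⊗[R] M := TensorProduct.mk R (R ⧸ 𝔫) M 1

theorem red_surjective : Function.Surjective (red 𝔫 (M := M)) :=
  TensorProduct.mk_surjective R M (R ⧸ 𝔫) Ideal.Quotient.mk_surjective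

theorem red_eq_zero {x : M} : red 𝔫 x = 0 ↔ x ∈ 𝔫 • (⊤ : Submodule R M) := by
  show (1 : R ⧸ 𝔫) ⊗ₜ[R] x = 0 ↔ _
  rw [← (TensorProduct.quotTensorEquivQuotSMul M 𝔫).map_eq_zero_iff, ← map_one (Ideal.Quotient.mk 𝔫),
    TensorProduct.quotTensorEquivQuotSMul_mk_tmul, one_smul, Submodule.Quotient.mk_eq_zero]

theorem red_eq {x y : M} : red 𝔫 x = red 𝔫 y ↔ x - y ∈ 𝔫 • (⊤ : Submodule R M) := by
  rw [← red_eq_zero, map_sub, sub_eq_zero]

theorem red_natural (f : M →ₗ[R] N) (x : M) : f.baseChange (R ⧸ 𝔫) (red 𝔫 x) = red 𝔫 (f x) := by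
  simp [red]

theorem mem_baseChange {p : Submodule R M} {z : (R ⧸ 𝔫) ⊗[R] M} :
    z ∈ p.baseChange (R ⧸ 𝔫) ↔ ∃ x ∈ p, red 𝔫 x = z := by
  constructor
  · rintro ⟨w, rfl⟩
    obtain ⟨x, rfl⟩ := red_surjective 𝔫 w
    exact ⟨x, x.2, (red_natural 𝔫 p.subtype x).symm⟩
  · rintro ⟨x, hx, rfl⟩
    exact ⟨red 𝔫 ⟨x, hx⟩, red_natural 𝔫 p.subtype ⟨x, hx⟩⟩

theorem mem_smul_top_map (f : M →ₗ[R] N) {x : M} (hx : x ∈ 𝔫 • (⊤ : Submodule R M)) :
    f x ∈ 𝔫 • (⊤ : Submodule R N) := by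
  have h := Submodule.mem_map_of_mem (f := f) hx
  rw [Submodule.map_smul''] at h
  exact Submodule.smul_mono le_rfl le_top h

/-- A submodule with projective quotient has a projection. -/
theorem exists_proj (p : Submodule R M) [Module.Projective R (M ⧸ p)] :
    ∃ π : M →ₗ[R] p, ∀ x : p, π x = x := by
  obtain ⟨s, hs⟩ := Module.projective_lifting_property p.mkQ LinearMap.id p.mkQ_surjective
  have h : ∀ x, (LinearMap.id - s ∘ₗ p.mkQ : M →ₗ[R] M) x ∈ p := by
    intro x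
    rw [← Submodule.Quotient.mk_eq_zero]
    have := LinearMap.congr_fun hs (Submodule.Quotient.mk x)
    simp only [LinearMap.comp_apply, Submodule.mkQ_apply, LinearMap.id_apply] at this
    simp [this]
  refine ⟨(LinearMap.id - s ∘ₗ p.mkQ).codRestrict p h, fun x => Subtype.ext ?_⟩
  simp [(Submodule.Quotient.mk_eq_zero p).2 x.2]

theorem projective_of_projective_quotient (p : Submodule R M) [Module.Projective R M]
    [Module.Projective R (M ⧸ p)] : Module.Projective R p := by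
  obtain ⟨π, hπ⟩ := exists_proj p
  exact Module.Projective.of_split p.subtype π (LinearMap.ext hπ)

theorem mem_smul_of_proj {p : Submodule R M} {π : M →ₗ[R] p} (hπ : ∀ x : p, π x = x) {x : M}
    (hx : x ∈ p) (hx' : x ∈ 𝔫 • (⊤ : Submodule R M)) : x ∈ 𝔫 • p := by
  have h := Submodule.mem_map_of_mem (f := p.subtype ∘ₗ π) hx'
  rw [Submodule.map_smul''] at h
  have e : (p.subtype ∘ₗ π) x = x := congrArg Subtype.val (hπ ⟨x, hx⟩)
  rw [e] at h
  refine Submodule.smul_mono le_rfl ?_ h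
  rintro _ ⟨y, -, rfl⟩
  exact (π y).2

end Groth.Agent.CAlg.SummandLift
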