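import Mathlib
import Groth.Agent.Hensel.Pair

/-! Tame radical extensions of a Henselian DVR with algebraically closed residue field. -/

namespace Groth.Agent.CAlg.TameRadical

open Polynomial IsLocalRing

universe u

variable {O : Type u} [CommRing O] [IsDomain O] [HenselianLocalRing O]
  [IsAlgClosed (ResidueField O)]

omit [IsDomain O] in
theorem exists_pow_eq {n : ℕ} (hn : (n : ResidueField O) ≠ 0) (u : Oˣ) :
    ∃ w : Oˣ, w ^ n = u := by
  have hn0 : 0 < n := Nat.pos_of_ne_zero fun h => hn (by simp [h])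
  obtain ⟨b, hb⟩ := IsAlgClosed.exists_pow_nat_eq (residue O (u : O)) hn0
  obtain ⟨b, rfl⟩ := residue_surjective b
  have hb0 : residue O b ≠ 0 := by
    intro h
    rw [h, zero_pow hn0.ne'] at hb
    exact (residue_ne_zero_iff_isUnit _).2 u.isUnit hb.symm
  obtain ⟨a, ha, -⟩ := HenselianLocalRing.is_henselian (X ^ n - C (u : O)) (monic_X_pow_sub_C _ hn0.ne') b
    (by rw [← residue_eq_zero_iff]; simp [hb])
    (by
      rw [← residue_ne_zero_iff_isUnit]
      simp [derivative_X_pow, hn, hb0])
  have hau : a ^ n = u := by simpa [IsRoot, sub_eq_zero] using ha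
  have : IsUnit a := (isUnit_pow_iff hn0.ne').1 (hau ▸ u.isUnit)
  exact ⟨this.unit, Units.ext hau⟩

theorem exists_primitiveRoot {n : ℕ} (hn : (n : ResidueField O) ≠ 0) :
    ∃ ζ : O, IsPrimitiveRoot ζ n := by
  have hn0 : 0 < n := Nat.pos_of_ne_zero fun h => hn (by simp [h])
  haveI : NeZero n := ⟨hn0.ne'⟩
  haveI : NeZero (n : ResidueField O) := ⟨hn⟩
  obtain ⟨ζb, hζ⟩ := HasEnoughRootsOfUnity.exists_primitiveRoot (ResidueField O) n
  obtain ⟨b, rfl⟩ := residue_surjective ζb
  obtain ⟨a, ha, hab⟩ := HenselianLocalRing.is_henselian (X ^ n - C (1 : O)) (monic_X_pow_sub_C _ hn0.ne') b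
    (by rw [← residue_eq_zero_iff]; simp [hζ.pow_eq_one])
    (by
      rw [← residue_ne_zero_iff_isUnit]
      simp [derivative_X_pow, hn, hζ.ne_zero hn0.ne'])
  have hau : a ^ n = 1 := by simpa [IsRoot, sub_eq_zero] using ha
  have hres : residue O a = residue O b := by
    rwa [← sub_eq_zero, ← map_sub, residue_eq_zero_iff]
  refine ⟨a, hau, fun l hl => ?_⟩
  apply hζ.dvd_of_pow_eq_one
  rw [← hres, ← map_pow, hl, map_one]

variable [IsDiscreteValuationRing O] {ϖ : O} (hϖ : Irreducible ϖ)

omit [IsAlgClosed (ResidueField O)] in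
theorem irreducible_map {f : O[X]} (hf : f.Monic) (hE : f.IsEisensteinAt (IsLocalRing.maximalIdeal O))
    (hd : 0 < f.natDegree) : Irreducible (f.map (algebraMap O (FractionRing O))) :=
  (hf.irreducible_iff_irreducible_map_fraction_map).1
    (hE.irreducible (IsLocalRing.maximalIdeal.isMaximal O).isPrime hf.isPrimitive hd)

include hϖ in
omit [IsAlgClosed (ResidueField O)] in
theorem irreducible_X_pow_sub_C {n : ℕ} (hn : 0 < n) :
    Irreducible (X ^ n - C (algebraMap O (FractionRing O) ϖ)) := by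
  have h := irreducible_map (f := X ^ n - C ϖ) (monic_X_pow_sub_C _ hn.ne') ⟨?_, ?_, ?_⟩ (by rw [natDegree_X_pow_sub_C]; exact hn)
  · simpa using h
  · rw [(monic_X_pow_sub_C ϖ hn.ne').leadingCoeff, ← Ideal.ne_top_iff_one]
    exact (IsLocalRing.maximalIdeal.isMaximal O).ne_top
  · intro i hi
    rw [natDegree_X_pow_sub_C] at hi
    rw [coeff_sub, coeff_X_pow, if_neg hi.ne, zero_sub, neg_mem_iff, coeff_C]
    split
    · rw [hϖ.maximalIdeal_eq]; exact Ideal.mem_span_singleton_self _
    · exact zero_mem _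
  · rw [coeff_sub, coeff_X_pow, if_neg hn.ne, zero_sub, neg_mem_iff, coeff_C_zero, hϖ.maximalIdeal_eq,
      Ideal.span_singleton_pow, Ideal.mem_span_singleton]
    rintro ⟨c, hc⟩
    have h1 : ϖ * 1 = ϖ * (ϖ * c) := by rw [mul_one]; linear_combination hc
    exact hϖ.not_isUnit (IsUnit.of_mul_eq_one c (mul_left_cancel₀ hϖ.ne_zero h1).symm)

/-- Splitting field facts for `Xⁿ - ϖ`. -/
theorem primitiveRoots_nonempty {n : ℕ} (hn : (n : ResidueField O) ≠ 0) :
    (primitiveRoots n (FractionRing O)).Nonempty := by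
  obtain ⟨ζ, hζ⟩ := exists_primitiveRoot (O := O) hn
  have hn0 : 0 < n := Nat.pos_of_ne_zero fun h => hn (by simp [h])
  exact ⟨_, (mem_primitiveRoots hn0).2 (hζ.map_of_injective (IsFractionRing.injective O (FractionRing O)))⟩

/-- A tame root in a field: any `π` with `π ^ e = u * ϖ` for integral data gives an `e`-th root of `ϖ`. -/
theorem exists_pow_eq_uniformizer {L : Type u} [Field L] [Algebra O L] (hinj : Function.Injective (algebraMap O L))
    (f : O[X]) (hmon : f.Monic) (hE : f.IsEisensteinAt (IsLocalRing.maximalIdeal O))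
    (he : 0 < f.natDegree) (hec : (f.natDegree : ResidueField O) ≠ 0) (π : L) (hπ : aeval π f = 0)
    {ϖ : O} (hϖ : Irreducible ϖ) :
    ∃ t : L, t ^ f.natDegree = algebraMap O L ϖ := by
  classical
  set e := f.natDegree
  have hdiv : ∀ i < e, ∃ b, f.coeff i = ϖ * b := fun i hi => by
    have h := hE.mem hi
    rwa [hϖ.maximalIdeal_eq, Ideal.mem_span_singleton] at h
  choose! b hb using hdiv
  have hb0 : IsUnit (b 0) := by
    by_contra h
    refine hE.notMem ?_
    rw [hb 0 he, hϖ.maximalIdeal_eq, Ideal.span_singleton_pow, pow_two]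
    have : b 0 ∈ IsLocalRing.maximalIdeal O := h
    rw [hϖ.maximalIdeal_eq, Ideal.mem_span_singleton] at this
    exact Ideal.mem_span_singleton.2 (mul_dvd_mul_left ϖ this)
  let O' := AdjoinRoot f
  haveI : Module.Finite O O' := (AdjoinRoot.powerBasis' hmon).finite
  haveI : Algebra.IsIntegral O O' := inferInstance
  set r : O' := AdjoinRoot.root f
  set m' := (IsLocalRing.maximalIdeal O).map (algebraMap O O')
  haveI : HenselianRing O' m' := Groth.Agent.Hensel.henselianRing_of_isIntegral O'
  let u : O' := - ∑ i ∈ Finset.range e, algebraMap O O' (b i) * r ^ i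
  have hru : r ^ e = algebraMap O O' ϖ * u := by
    have h : aeval r f = 0 := AdjoinRoot.aeval_eq f ▸ AdjoinRoot.mk_self
    rw [aeval_eq_sum_range, Finset.sum_range_succ, hmon.coeff_natDegree, one_smul] at h
    show r ^ e = algebraMap O O' ϖ * -(∑ i ∈ Finset.range e, algebraMap O O' (b i) * r ^ i)
    rw [mul_neg, eq_neg_iff_add_eq_zero, Finset.mul_sum, add_comm]
    convert h using 2
    refine Finset.sum_congr rfl fun i hi => ?_
    rw [Algebra.smul_def, hb i (Finset.mem_range.1 hi), map_mul, mul_assoc]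
  let J : Ideal O' := m' ⊔ Ideal.span {r}
  haveI : HenselianRing O' J := by
    refine Groth.Agent.Hensel.henselianRing_of_radical_eq (I := m') (sup_le Ideal.le_radical ?_)
    rw [Ideal.span_singleton_le_iff_mem]
    exact ⟨e, by rw [hru]; exact Ideal.mul_mem_right _ _ (Ideal.mem_map_of_mem _ (by rw [hϖ.maximalIdeal_eq]; exact Ideal.mem_span_singleton_self ϖ))⟩
  obtain ⟨c, hc⟩ := IsAlgClosed.exists_pow_nat_eq (residue O (-(b 0))) he
  obtain ⟨c, rfl⟩ := residue_surjective c
  have hc0 : IsUnit c := by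
    rw [← residue_ne_zero_iff_isUnit]
    intro h
    rw [h, zero_pow he.ne'] at hc
    exact (residue_ne_zero_iff_isUnit _).2 hb0.neg hc.symm
  obtain ⟨w, hw, -⟩ := HenselianRing.is_henselian (I := J) (X ^ e - C u) (monic_X_pow_sub_C _ he.ne') (algebraMap O O' c) (by
      have h1 : algebraMap O O' c ^ e - algebraMap O O' (-(b 0)) ∈ J := by
        rw [← map_pow, ← map_sub]
        refine Ideal.mem_sup_left (Ideal.mem_map_of_mem _ ?_)
        rw [← residue_eq_zero_iff, map_sub, map_pow, hc, sub_self]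
      have h2 : algebraMap O O' (-(b 0)) - u ∈ J := by
        simp only [u, map_neg, sub_neg_eq_add]
        rw [neg_add_eq_sub]
        obtain ⟨e', he'⟩ : ∃ e', e = e' + 1 := ⟨e - 1, by omega⟩
        rw [he', Finset.sum_range_succ', pow_zero, mul_one, add_sub_cancel_right]
        exact J.sum_mem fun i _ => Ideal.mem_sup_right (Ideal.mem_span_singleton.2 (Dvd.dvd.mul_left (dvd_pow_self r (Nat.succ_ne_zero i)) _))
      have h3 := add_mem h1 h2
      rw [sub_add_sub_cancel] at h3
      simpa using h3) (by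
      simp only [derivative_sub, derivative_X_pow, derivative_C, sub_zero, eval_mul, eval_C, eval_pow, eval_X]
      refine IsUnit.map _ (IsUnit.mul ?_ (((hc0.map (algebraMap O O'))).pow _))
      rw [← map_natCast (algebraMap O O')]
      exact ((residue_ne_zero_iff_isUnit _).1 (by simpa using hec)).map _)
  have hwu : w ^ e = u := by simpa [IsRoot, sub_eq_zero] using hw
  let g : O' →ₐ[O] L := AdjoinRoot.liftAlgHom f (Algebra.ofId O L) π hπ
  have hgr : g r = π := AdjoinRoot.liftAlgHom_root _ _ _ _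
  have h := congrArg g hru
  rw [map_pow, hgr, map_mul, AlgHom.commutes, ← hwu, map_pow] at h
  have hgw : g w ≠ 0 := by
    intro h0
    have hπ0 : π ≠ 0 := by
      intro hp
      rw [hp] at hπ
      rw [aeval_def, eval₂_at_zero] at hπ
      refine hE.notMem ?_
      rw [(map_eq_zero_iff _ hinj).1 hπ]
      exact zero_mem _
    rw [h0, zero_pow he.ne', mul_zero] at h
    exact hπ0 (eq_zero_of_pow_eq_zero h)
  refine ⟨π / g w, ?_⟩
  rw [div_pow, h, mul_div_assoc, div_self (pow_ne_zero _ hgw), mul_one]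

end Groth.Agent.CAlg.TameRadical
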